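/-
Quadratic spaces over a field, Siegel (Eichler) transformations, isometries and
semisimilarities as subgroups of `Equiv.Perm V`.
-/
import Mathlib

set_option autoImplicit false

namespace Cfsg.Agent.OrthAut.Basic

open QuadraticMap

theorem papply_inv {X : Type*} (g : Equiv.Perm X) (x : X) : g (g⁻¹ x) = x := g.apply_symm_apply x

theorem pinv_apply {X : Type*} (g : Equiv.Perm X) (x : X) : g⁻¹ (g x) = x := g.symm_apply_apply x

variable {F V : Type*} [Field F] [AddCommGroup V] [Module F V]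

/-- `g` is a semisimilarity of `Q` with field automorphism `σ` and multiplier `μ`. -/
structure IsSemiSim (Q : QuadraticForm F V) (σ : F ≃+* F) (μ : F) (g : Equiv.Perm V) : Prop where
  ne : μ ≠ 0
  add : ∀ x y : V, g (x + y) = g x + g y
  smul : ∀ (c : F) (x : V), g (c • x) = σ c • g x
  map : ∀ x, Q (g x) = μ * σ (Q x)

theorem IsSemiSim.mul {Q : QuadraticForm F V} {σ τ : F ≃+* F} {μ ν : F} {g h : Equiv.Perm V}
    (hg : IsSemiSim Q σ μ g) (hh : IsSemiSim Q τ ν h) :
    IsSemiSim Q (τ.trans σ) (μ * σ ν) (g * h) := by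
  obtain ⟨h1, h0, h2, h3⟩ := hg
  obtain ⟨k1, k0, k2, k3⟩ := hh
  refine ⟨mul_ne_zero h1 (by simpa using k1), fun x y => ?_, fun c x => ?_, fun x => ?_⟩
  · simp only [Equiv.Perm.mul_apply, h0, k0]
  · rw [Equiv.Perm.mul_apply, Equiv.Perm.mul_apply, k2, h2]; rfl
  · rw [Equiv.Perm.mul_apply, h3, k3, map_mul, mul_assoc]; rfl

theorem IsSemiSim.inv {Q : QuadraticForm F V} {σ : F ≃+* F} {μ : F} {g : Equiv.Perm V}
    (hg : IsSemiSim Q σ μ g) : IsSemiSim Q σ.symm (σ.symm μ⁻¹) g⁻¹ := by
  obtain ⟨h1, h0, h2, h3⟩ := hg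
  refine ⟨by simpa using h1, fun x y => ?_, fun c x => ?_, fun x => ?_⟩
  · apply g.injective
    rw [h0, papply_inv, papply_inv, papply_inv]
  · apply g.injective
    rw [h2, papply_inv, papply_inv, RingEquiv.apply_symm_apply]
  · have := h3 (g⁻¹ x)
    rw [papply_inv] at this
    rw [this]
    rw [map_mul, RingEquiv.symm_apply_apply, ← mul_assoc, ← map_mul, inv_mul_cancel₀ h1, map_one,
      one_mul]

theorem IsSemiSim.one (Q : QuadraticForm F V) : IsSemiSim Q (RingEquiv.refl F) 1 1 :=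
  ⟨one_ne_zero, fun _ _ => rfl, fun _ _ => rfl, fun x => by rw [one_mul]; rfl⟩

theorem IsSemiSim.zero {Q : QuadraticForm F V} {σ : F ≃+* F} {μ : F} {g : Equiv.Perm V}
    (hg : IsSemiSim Q σ μ g) : g 0 = 0 := by
  have := hg.smul 0 0
  simpa using this

theorem IsSemiSim.neg {Q : QuadraticForm F V} {σ : F ≃+* F} {μ : F} {g : Equiv.Perm V}
    (hg : IsSemiSim Q σ μ g) (x : V) : g (-x) = - g x := by
  have := hg.smul (-1) x
  simpa using this

theorem IsSemiSim.sub {Q : QuadraticForm F V} {σ : F ≃+* F} {μ : F} {g : Equiv.Perm V}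
    (hg : IsSemiSim Q σ μ g) (x y : V) : g (x - y) = g x - g y := by
  rw [sub_eq_add_neg, hg.add, hg.neg, sub_eq_add_neg]

/-- Isometries of `Q`. -/
def Og (Q : QuadraticForm F V) : Subgroup (Equiv.Perm V) where
  carrier := {g | IsSemiSim Q (RingEquiv.refl F) 1 g}
  mul_mem' := by
    rintro a b ha hb
    have h : IsSemiSim Q ((RingEquiv.refl F).trans (RingEquiv.refl F))
      (1 * (RingEquiv.refl F) 1) (a * b) := IsSemiSim.mul ha hb
    have h1 : (1 : F) * (RingEquiv.refl F) 1 = 1 := by simp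
    rw [h1] at h
    exact h
  one_mem' := IsSemiSim.one Q
  inv_mem' := by
    rintro a ha
    have h : IsSemiSim Q (RingEquiv.refl F).symm ((RingEquiv.refl F).symm 1⁻¹) a⁻¹ :=
      IsSemiSim.inv ha
    have h1 : (RingEquiv.refl F).symm (1 : F)⁻¹ = 1 := by simp
    rw [h1] at h
    exact h

theorem mem_Og {Q : QuadraticForm F V} {g : Equiv.Perm V} :
    g ∈ Og Q ↔ IsSemiSim Q (RingEquiv.refl F) 1 g := Iff.rfl

theorem Og_add {Q : QuadraticForm F V} {g : Equiv.Perm V} (hg : g ∈ Og Q) (x y : V) :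
    g (x + y) = g x + g y := (mem_Og.1 hg).add x y

theorem Og_sub {Q : QuadraticForm F V} {g : Equiv.Perm V} (hg : g ∈ Og Q) (x y : V) :
    g (x - y) = g x - g y := (mem_Og.1 hg).sub x y

theorem Og_neg {Q : QuadraticForm F V} {g : Equiv.Perm V} (hg : g ∈ Og Q) (x : V) :
    g (-x) = - g x := (mem_Og.1 hg).neg x

theorem Og_zero {Q : QuadraticForm F V} {g : Equiv.Perm V} (hg : g ∈ Og Q) :
    g 0 = 0 := (mem_Og.1 hg).zero

theorem Og_smul {Q : QuadraticForm F V} {g : Equiv.Perm V} (hg : g ∈ Og Q) (c : F) (x : V) :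
    g (c • x) = c • g x := (mem_Og.1 hg).smul c x

theorem Og_map {Q : QuadraticForm F V} {g : Equiv.Perm V} (hg : g ∈ Og Q) (x : V) :
    Q (g x) = Q x := by
  rw [(mem_Og.1 hg).map x, one_mul]; rfl

theorem mem_Og_of {Q : QuadraticForm F V} {g : Equiv.Perm V}
    (h0 : ∀ x y : V, g (x + y) = g x + g y) (h1 : ∀ (c : F) (x : V), g (c • x) = c • g x)
    (h2 : ∀ x, Q (g x) = Q x) : g ∈ Og Q :=
  ⟨one_ne_zero, h0, h1, fun x => by rw [h2, one_mul]; rfl⟩

/-- The group of semisimilarities. -/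
def GammaO (Q : QuadraticForm F V) : Subgroup (Equiv.Perm V) where
  carrier := {g | ∃ (σ : F ≃+* F) (μ : F), IsSemiSim Q σ μ g}
  mul_mem' := by
    rintro a b ⟨σ, μ, ha⟩ ⟨τ, ν, hb⟩
    exact ⟨_, _, ha.mul hb⟩
  one_mem' := ⟨_, _, IsSemiSim.one Q⟩
  inv_mem' := by
    rintro a ⟨σ, μ, ha⟩
    exact ⟨_, _, ha.inv⟩

theorem mem_GammaO {Q : QuadraticForm F V} {g : Equiv.Perm V} :
    g ∈ GammaO Q ↔ ∃ (σ : F ≃+* F) (μ : F), IsSemiSim Q σ μ g := Iff.rfl

theorem Og_le_GammaO (Q : QuadraticForm F V) : Og Q ≤ GammaO Q := fun _ hg =>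
  ⟨_, _, hg⟩

theorem polar_semiSim {Q : QuadraticForm F V} {σ : F ≃+* F} {μ : F} {g : Equiv.Perm V}
    (hg : IsSemiSim Q σ μ g) (x y : V) : polar Q (g x) (g y) = μ * σ (polar Q x y) := by
  obtain ⟨_, h0, _, h3⟩ := hg
  unfold polar
  rw [← h0, h3, h3, h3, map_sub, map_sub]
  ring

theorem polar_Og {Q : QuadraticForm F V} {g : Equiv.Perm V}
    (hg : g ∈ Og Q) (x y : V) : polar Q (g x) (g y) = polar Q x y := by
  have := polar_semiSim hg x y
  rw [this, one_mul]; rfl

/-! ### Siegel transformations -/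

/-- The function `x ↦ x + B(x,u) w - B(x,w) u - Q(w) B(x,u) u`. -/
def siegelFun (Q : QuadraticForm F V) (u w x : V) : V :=
  x + polar Q x u • w - polar Q x w • u - (Q w * polar Q x u) • u

theorem polar_self_of_singular {Q : QuadraticForm F V} {u : V} (hu : Q u = 0) :
    polar Q u u = 0 := by
  rw [polar_self, hu, smul_zero]

theorem siegelFun_comp {Q : QuadraticForm F V} {u w w' : V} (hu : Q u = 0)
    (hw : polar Q w u = 0) (hw' : polar Q w' u = 0) (x : V) :
    siegelFun Q u w (siegelFun Q u w' x) = siegelFun Q u (w + w') x := by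
  have huu := polar_self_of_singular hu
  have huw : polar Q u w = 0 := by rw [polar_comm]; exact hw
  have h1 : polar Q (siegelFun Q u w' x) u = polar Q x u := by
    unfold siegelFun
    rw [polar_sub_left, polar_sub_left, polar_add_left, polar_smul_left, polar_smul_left,
      polar_smul_left, hw', huu]
    simp
  have h2 : polar Q (siegelFun Q u w' x) w = polar Q x w + polar Q x u * polar Q w' w := by
    unfold siegelFun
    rw [polar_sub_left, polar_sub_left, polar_add_left, polar_smul_left, polar_smul_left,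
      polar_smul_left, huw]
    simp
  have h3 : Q (w + w') = Q w + Q w' + polar Q w' w := by
    rw [QuadraticMap.map_add (⇑Q) w w', polar_comm]
  rw [siegelFun, h1, h2, siegelFun, siegelFun, h3, polar_add_right]
  module

theorem siegelFun_zero {Q : QuadraticForm F V} (u x : V) :
    siegelFun Q u 0 x = x := by
  simp [siegelFun]

theorem siegelFun_add {Q : QuadraticForm F V} (u w x y : V) :
    siegelFun Q u w (x + y) = siegelFun Q u w x + siegelFun Q u w y := by
  simp only [siegelFun, polar_add_left]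
  module

theorem siegelFun_smul {Q : QuadraticForm F V} (u w x : V) (c : F) :
    siegelFun Q u w (c • x) = c • siegelFun Q u w x := by
  simp only [siegelFun, polar_smul_left, smul_eq_mul]
  module

theorem map_siegelFun {Q : QuadraticForm F V} {u w : V} (hu : Q u = 0)
    (hw : polar Q w u = 0) (x : V) : Q (siegelFun Q u w x) = Q x := by
  have huu := polar_self_of_singular hu
  have huw : polar Q u w = 0 := by rw [polar_comm]; exact hw
  have e : siegelFun Q u w x = x + (polar Q x u • w + (-(polar Q x w + Q w * polar Q x u)) • u) := by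
    unfold siegelFun; module
  rw [e, QuadraticMap.map_add (⇑Q), QuadraticMap.map_add (⇑Q) (polar Q x u • w),
    QuadraticMap.map_smul, QuadraticMap.map_smul, hu, polar_add_right, polar_smul_right,
    polar_smul_right, polar_smul_left, polar_smul_right, hw]
  simp only [smul_eq_mul]
  ring

/-- Siegel transformation as an element of `Equiv.Perm V`. -/
def siegel (Q : QuadraticForm F V) (u w : V) (hu : Q u = 0) (hw : polar Q w u = 0) :
    Equiv.Perm V where
  toFun := siegelFun Q u w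
  invFun := siegelFun Q u (-w)
  left_inv x := by
    rw [siegelFun_comp hu (by rw [polar_neg_left, hw, neg_zero]) hw, neg_add_cancel,
      siegelFun_zero]
  right_inv x := by
    rw [siegelFun_comp hu hw (by rw [polar_neg_left, hw, neg_zero]), add_neg_cancel,
      siegelFun_zero]

theorem siegel_apply {Q : QuadraticForm F V} {u w : V} (hu : Q u = 0) (hw : polar Q w u = 0)
    (x : V) : siegel Q u w hu hw x =
      x + polar Q x u • w - polar Q x w • u - (Q w * polar Q x u) • u := rfl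

theorem siegel_mem_Og {Q : QuadraticForm F V} {u w : V} (hu : Q u = 0) (hw : polar Q w u = 0) :
    siegel Q u w hu hw ∈ Og Q :=
  mem_Og_of (siegelFun_add u w) (fun c x => siegelFun_smul u w x c)
    (fun x => map_siegelFun hu hw x)

/-- Conjugating a Siegel transformation by a semisimilarity. -/
theorem conj_siegel {Q : QuadraticForm F V} {u w : V} (hu : Q u = 0) (hw : polar Q w u = 0)
    {σ : F ≃+* F} {μ : F} {g : Equiv.Perm V} (hg : IsSemiSim Q σ μ g)
    (hu' : Q (g u) = 0) (hw' : polar Q (μ⁻¹ • g w) (g u) = 0) :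
    g * siegel Q u w hu hw * g⁻¹ = siegel Q (g u) (μ⁻¹ • g w) hu' hw' := by
  have hμ := hg.ne
  rw [mul_inv_eq_iff_eq_mul]
  apply Equiv.ext
  intro x
  rw [Equiv.Perm.mul_apply, Equiv.Perm.mul_apply, siegel_apply, siegel_apply]
  rw [hg.sub, hg.sub, hg.add, hg.smul, hg.smul, hg.smul, polar_semiSim hg, polar_smul_right,
    polar_semiSim hg, QuadraticMap.map_smul, hg.map, map_mul]
  simp only [smul_eq_mul, smul_smul]
  have e1 : μ * σ (polar Q x u) * μ⁻¹ = σ (polar Q x u) := by field_simp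
  have e2 : μ⁻¹ * (μ * σ (polar Q x w)) = σ (polar Q x w) := by field_simp
  have e3 : μ⁻¹ * μ⁻¹ * (μ * σ (Q w)) * (μ * σ (polar Q x u)) = σ (Q w) * σ (polar Q x u) := by
    field_simp
  rw [e1, e2, e3]

/-- The group generated by all Siegel transformations. -/
def Om (Q : QuadraticForm F V) : Subgroup (Equiv.Perm V) :=
  Subgroup.closure {g | ∃ (u w : V) (hu : Q u = 0) (hw : polar Q w u = 0), g = siegel Q u w hu hw}

theorem Om_def (Q : QuadraticForm F V) : Om Q =
  Subgroup.closure {g | ∃ (u w : V) (hu : Q u = 0) (hw : polar Q w u = 0),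
    g = siegel Q u w hu hw} := rfl

theorem siegel_mem_Om {Q : QuadraticForm F V} {u w : V} (hu : Q u = 0) (hw : polar Q w u = 0) :
    siegel Q u w hu hw ∈ Om Q := Subgroup.subset_closure ⟨u, w, hu, hw, rfl⟩

theorem Om_le_Og (Q : QuadraticForm F V) : Om Q ≤ Og Q := by
  rw [Om_def, Subgroup.closure_le]
  rintro g ⟨u, w, hu, hw, rfl⟩
  exact siegel_mem_Og hu hw

theorem Om_le_GammaO (Q : QuadraticForm F V) : Om Q ≤ GammaO Q :=
  (Om_le_Og Q).trans (Og_le_GammaO Q)

theorem conj_mem_Om {Q : QuadraticForm F V} {g h : Equiv.Perm V} (hg : g ∈ GammaO Q)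
    (hh : h ∈ Om Q) : g * h * g⁻¹ ∈ Om Q := by
  obtain ⟨σ, μ, hg⟩ := hg
  have : Om Q ≤ (Om Q).comap (MulAut.conj g).toMonoidHom := by
    conv_lhs => rw [Om_def]
    rw [Subgroup.closure_le]
    rintro h ⟨u, w, hu, hw, rfl⟩
    have hu' : Q (g u) = 0 := by rw [hg.map, hu, map_zero, mul_zero]
    have hw' : polar Q (μ⁻¹ • g w) (g u) = 0 := by
      rw [polar_smul_left, polar_semiSim hg, hw, map_zero, mul_zero, smul_zero]
    show g * siegel Q u w hu hw * g⁻¹ ∈ Om Q
    rw [conj_siegel hu hw hg hu' hw']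
    exact siegel_mem_Om _ _
  exact this hh

end Cfsg.Agent.OrthAut.Basic
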