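/-
The quadratic space `H ⊥ V₀` modelled on `F × F × V₀`, its two opposite groups of Siegel
transformations.
-/
import Cfsg.Agent.OrthAut.Basic

set_option autoImplicit false
set_option linter.unusedSectionVars false

namespace Cfsg.Agent.OrthAut.Hyp

open QuadraticMap Cfsg.Agent.OrthAut.Basic

variable {F V : Type*} [Field F] [AddCommGroup V] [Module F V]

/-- The companion bilinear form of `hyp Q`. -/
def hypBil (Q : QuadraticForm F V) : LinearMap.BilinMap F (F × F × V) F :=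
  LinearMap.mk₂ F (fun x y => x.1 * y.2.1 + x.2.1 * y.1 + polar Q x.2.2 y.2.2)
    (fun x x' y => by simp only [Prod.fst_add, Prod.snd_add, polar_add_left]; ring)
    (fun c x y => by simp only [Prod.smul_fst, Prod.smul_snd, polar_smul_left, smul_eq_mul]; ring)
    (fun x y y' => by simp only [Prod.fst_add, Prod.snd_add, polar_add_right]; ring)
    (fun c x y => by simp only [Prod.smul_fst, Prod.smul_snd, polar_smul_right, smul_eq_mul]; ring)

/-- The quadratic form `(a, b, v) ↦ a b + Q v`. -/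
def hyp (Q : QuadraticForm F V) : QuadraticForm F (F × F × V) where
  toFun x := x.1 * x.2.1 + Q x.2.2
  toFun_smul c x := by
    simp only [Prod.smul_fst, Prod.smul_snd, QuadraticMap.map_smul, smul_eq_mul]; ring
  exists_companion' := ⟨hypBil Q, fun x y => by
    simp only [Prod.fst_add, Prod.snd_add, hypBil, LinearMap.mk₂_apply, QuadraticMap.map_add (⇑Q)]
    ring⟩

theorem hyp_apply (Q : QuadraticForm F V) (x : F × F × V) :
    hyp Q x = x.1 * x.2.1 + Q x.2.2 := rfl

@[simp] theorem hyp_mk (Q : QuadraticForm F V) (a b : F) (v : V) :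
    hyp Q (a, b, v) = a * b + Q v := rfl

theorem polar_hyp (Q : QuadraticForm F V) (x y : F × F × V) :
    polar (hyp Q) x y = x.1 * y.2.1 + x.2.1 * y.1 + polar Q x.2.2 y.2.2 := by
  simp only [polar, hyp_apply, Prod.fst_add, Prod.snd_add]
  ring

@[simp] theorem polar_hyp_mk (Q : QuadraticForm F V) (a b a' b' : F) (v v' : V) :
    polar (hyp Q) (a, b, v) (a', b', v') = a * b' + b * a' + polar Q v v' := polar_hyp Q _ _

/-- first hyperbolic vector -/
def e1 : F × F × V := (1, 0, 0)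
/-- second hyperbolic vector -/
def f1 : F × F × V := (0, 1, 0)

/-- `ρ⁺_w` as a permutation. -/
def rp (Q : QuadraticForm F V) (w : V) : Equiv.Perm (F × F × V) where
  toFun x := (x.1 - polar Q x.2.2 w - Q w * x.2.1, x.2.1, x.2.2 + x.2.1 • w)
  invFun x := (x.1 + polar Q x.2.2 w - Q w * x.2.1, x.2.1, x.2.2 - x.2.1 • w)
  left_inv x := by
    obtain ⟨a, b, v⟩ := x
    simp only [polar_add_left, polar_smul_left, polar_self, smul_eq_mul, nsmul_eq_mul]
    refine Prod.ext ?_ (Prod.ext rfl ?_)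
    · simp only; push_cast; ring
    · simp
  right_inv x := by
    obtain ⟨a, b, v⟩ := x
    simp only [polar_sub_left, polar_smul_left, polar_self, smul_eq_mul, nsmul_eq_mul]
    refine Prod.ext ?_ (Prod.ext rfl ?_)
    · simp only; push_cast; ring
    · simp

/-- `ρ⁻_w` as a permutation. -/
def rm (Q : QuadraticForm F V) (w : V) : Equiv.Perm (F × F × V) where
  toFun x := (x.1, x.2.1 - polar Q x.2.2 w - Q w * x.1, x.2.2 + x.1 • w)
  invFun x := (x.1, x.2.1 + polar Q x.2.2 w - Q w * x.1, x.2.2 - x.1 • w)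
  left_inv x := by
    obtain ⟨a, b, v⟩ := x
    simp only [polar_add_left, polar_smul_left, polar_self, smul_eq_mul, nsmul_eq_mul]
    refine Prod.ext rfl (Prod.ext ?_ ?_)
    · simp only; push_cast; ring
    · simp
  right_inv x := by
    obtain ⟨a, b, v⟩ := x
    simp only [polar_sub_left, polar_smul_left, polar_self, smul_eq_mul, nsmul_eq_mul]
    refine Prod.ext rfl (Prod.ext ?_ ?_)
    · simp only; push_cast; ring
    · simp

variable (Q : QuadraticForm F V)

@[simp] theorem rp_mk (w : V) (a b : F) (v : V) :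
    rp Q w (a, b, v) = (a - polar Q v w - Q w * b, b, v + b • w) := rfl

@[simp] theorem rm_mk (w : V) (a b : F) (v : V) :
    rm Q w (a, b, v) = (a, b - polar Q v w - Q w * a, v + a • w) := rfl

theorem rp_zero : rp Q 0 = 1 := by
  ext x
  all_goals obtain ⟨a, b, v⟩ := x
  all_goals simp

theorem rm_zero : rm Q 0 = 1 := by
  ext x
  all_goals obtain ⟨a, b, v⟩ := x
  all_goals simp

theorem rp_add (w w' : V) : rp Q (w + w') = rp Q w * rp Q w' := by
  apply Equiv.ext
  rintro ⟨a, b, v⟩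
  rw [Equiv.Perm.mul_apply, rp_mk, rp_mk, rp_mk, polar_add_left, polar_add_right,
    QuadraticMap.map_add (⇑Q), polar_smul_left, polar_comm Q w' w, smul_eq_mul]
  refine Prod.ext ?_ (Prod.ext rfl ?_)
  · simp only; ring
  · simp only; module

theorem rm_add (w w' : V) : rm Q (w + w') = rm Q w * rm Q w' := by
  apply Equiv.ext
  rintro ⟨a, b, v⟩
  rw [Equiv.Perm.mul_apply, rm_mk, rm_mk, rm_mk, polar_add_left, polar_add_right,
    QuadraticMap.map_add (⇑Q), polar_smul_left, polar_comm Q w' w, smul_eq_mul]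
  refine Prod.ext rfl (Prod.ext ?_ ?_)
  · simp only; ring
  · simp only; module

theorem rp_neg (w : V) : rp Q (-w) = (rp Q w)⁻¹ := by
  rw [eq_inv_iff_mul_eq_one, ← rp_add, neg_add_cancel, rp_zero]

theorem rm_neg (w : V) : rm Q (-w) = (rm Q w)⁻¹ := by
  rw [eq_inv_iff_mul_eq_one, ← rm_add, neg_add_cancel, rm_zero]

theorem hyp_e1 : hyp Q e1 = 0 := by simp [e1]
theorem hyp_f1 : hyp Q f1 = 0 := by simp [f1]

theorem polar_in_e1 (w : V) : polar (hyp Q) (0, 0, w) e1 = 0 := by simp [e1]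
theorem polar_in_f1 (w : V) : polar (hyp Q) (0, 0, w) f1 = 0 := by simp [f1]

theorem rp_eq_siegel (w : V) :
    rp Q w = siegel (hyp Q) e1 (0, 0, w) (hyp_e1 Q) (polar_in_e1 Q w) := by
  apply Equiv.ext
  rintro ⟨a, b, v⟩
  rw [siegel_apply]
  simp [e1]

theorem rm_eq_siegel (w : V) :
    rm Q w = siegel (hyp Q) f1 (0, 0, w) (hyp_f1 Q) (polar_in_f1 Q w) := by
  apply Equiv.ext
  rintro ⟨a, b, v⟩
  rw [siegel_apply]
  simp [f1]

theorem rp_mem_Om (w : V) : rp Q w ∈ Om (hyp Q) := by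
  rw [rp_eq_siegel]; exact siegel_mem_Om _ _

theorem rm_mem_Om (w : V) : rm Q w ∈ Om (hyp Q) := by
  rw [rm_eq_siegel]; exact siegel_mem_Om _ _

theorem rp_mem_Og (w : V) : rp Q w ∈ Og (hyp Q) := Om_le_Og _ (rp_mem_Om Q w)

theorem rm_mem_Og (w : V) : rm Q w ∈ Og (hyp Q) := Om_le_Og _ (rm_mem_Om Q w)

/-- The group generated by `R⁺` and `R⁻`. -/
def Kg : Subgroup (Equiv.Perm (F × F × V)) :=
  Subgroup.closure (Set.range (rp Q) ∪ Set.range (rm Q))

theorem Kg_def : Kg Q = Subgroup.closure (Set.range (rp Q) ∪ Set.range (rm Q)) := rfl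

theorem rp_mem_Kg (w : V) : rp Q w ∈ Kg Q := Subgroup.subset_closure (Or.inl ⟨w, rfl⟩)

theorem rm_mem_Kg (w : V) : rm Q w ∈ Kg Q := Subgroup.subset_closure (Or.inr ⟨w, rfl⟩)

theorem Kg_le_Om : Kg Q ≤ Om (hyp Q) := by
  rw [Kg_def, Subgroup.closure_le]
  rintro g (⟨w, rfl⟩ | ⟨w, rfl⟩)
  · exact rp_mem_Om Q w
  · exact rm_mem_Om Q w

/-- Extension of a permutation of `V` to `F × F × V` acting trivially on the first factors. -/
def ext0 : Equiv.Perm V →* Equiv.Perm (F × F × V) where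
  toFun g := (Equiv.refl F).prodCongr ((Equiv.refl F).prodCongr g)
  map_one' := rfl
  map_mul' _ _ := rfl

@[simp] theorem ext0_mk (g : Equiv.Perm V) (a b : F) (v : V) :
    ext0 g (a, b, v) = (a, b, g v) := rfl

theorem ext0_mem_Og {g : Equiv.Perm V} (hg : g ∈ Og Q) : ext0 g ∈ Og (hyp Q) := by
  refine mem_Og_of ?_ ?_ ?_
  · rintro ⟨a, b, v⟩ ⟨a', b', v'⟩
    simp [Og_add hg]
  · rintro c ⟨a, b, v⟩
    simp [Og_smul hg]
  · rintro ⟨a, b, v⟩
    simp [Og_map hg]

theorem ext0_siegel {u w : V} (hu : Q u = 0) (hw : polar Q w u = 0) :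
    ext0 (siegel Q u w hu hw) = siegel (hyp Q) (0, 0, u) (0, 0, w)
      (by rw [hyp_mk, hu]; ring) (by rw [polar_hyp_mk, hw]; ring) := by
  apply Equiv.ext
  rintro ⟨a, b, v⟩
  rw [ext0_mk, siegel_apply, siegel_apply]
  simp

theorem ext0_mem_Om {g : Equiv.Perm V} (hg : g ∈ Om Q) : (ext0 g : Equiv.Perm (F × F × V)) ∈ Om (hyp Q) := by
  have : Om Q ≤ (Om (hyp Q)).comap (ext0 (F := F)) := by
    conv_lhs => rw [Om_def]
    rw [Subgroup.closure_le]
    rintro h ⟨u, w, hu, hw, rfl⟩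
    show ext0 _ ∈ Om (hyp Q)
    rw [ext0_siegel]
    exact siegel_mem_Om _ _
  exact this hg

/-- conjugation of `ρ⁺_w` by an isometry of `V₀` -/
theorem ext0_conj_rp {g : Equiv.Perm V} (hg : g ∈ Og Q) (w : V) :
    ext0 g * rp Q w * (ext0 g)⁻¹ = rp Q (g w) := by
  rw [mul_inv_eq_iff_eq_mul]
  apply Equiv.ext
  rintro ⟨a, b, v⟩
  simp [Og_add hg, Og_smul hg, Og_map hg, polar_Og hg]

theorem ext0_conj_rm {g : Equiv.Perm V} (hg : g ∈ Og Q) (w : V) :
    ext0 g * rm Q w * (ext0 g)⁻¹ = rm Q (g w) := by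
  rw [mul_inv_eq_iff_eq_mul]
  apply Equiv.ext
  rintro ⟨a, b, v⟩
  simp [Og_add hg, Og_smul hg, Og_map hg, polar_Og hg]

end Cfsg.Agent.OrthAut.Hyp
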