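/-
Transitivity of the Siegel group on vectors of given norm, spanning by singular vectors, two
rigidity lemmas.
-/
import Cfsg.Agent.OrthAut.Hyp

set_option autoImplicit false
set_option linter.unusedSectionVars false

namespace Cfsg.Agent.OrthAut.Trans

open QuadraticMap Cfsg.Agent.OrthAut.Basic Cfsg.Agent.OrthAut.Hyp

variable {F V : Type*} [Field F] [AddCommGroup V] [Module F V]

/-- Non-degenerate (polar form) with a hyperbolic pair. -/
structure Nice (Q : QuadraticForm F V) : Prop where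
  nondeg : ∀ x, (∀ y, polar Q x y = 0) → x = 0
  pair : ∃ e f, Q e = 0 ∧ Q f = 0 ∧ polar Q e f = 1

theorem Nice.singular_induction {Q : QuadraticForm F V} (hQ : Nice Q) {P : V → Prop}
    (h0 : ∀ x, Q x = 0 → P x) (hadd : ∀ x y, P x → P y → P (x + y)) (x : V) : P x := by
  obtain ⟨e, f, he, hf, hef⟩ := hQ.pair
  have hfe : polar Q f e = 1 := by rw [polar_comm]; exact hef
  have hee := polar_self_of_singular he
  have hff := polar_self_of_singular hf
  set v : V := x - polar Q x f • e - polar Q x e • f with hv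
  have hve : polar Q v e = 0 := by
    rw [hv, polar_sub_left, polar_sub_left, polar_smul_left, polar_smul_left, hee, hfe]
    simp
  have hvf : polar Q v f = 0 := by
    rw [hv, polar_sub_left, polar_sub_left, polar_smul_left, polar_smul_left, hef, hff]
    simp
  have hs : Q (v - Q v • e + f) = 0 := by
    rw [QuadraticMap.map_add (⇑Q), sub_eq_add_neg, QuadraticMap.map_add (⇑Q),
      polar_add_left, ← neg_smul, QuadraticMap.map_smul, polar_smul_right, polar_smul_left,
      he, hf, hve, hvf, hef]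
    simp
  have hx : x = (v - Q v • e + f) + ((polar Q x f + Q v) • e + (polar Q x e - 1) • f) := by
    rw [hv]; module
  rw [hx]
  refine hadd _ _ (h0 _ hs) (hadd _ _ (h0 _ ?_) (h0 _ ?_))
  · rw [QuadraticMap.map_smul, he, smul_zero]
  · rw [QuadraticMap.map_smul, hf, smul_zero]

theorem Nice.exists_singular_polar_ne {Q : QuadraticForm F V} (hQ : Nice Q) {x : V}
    (hx : x ≠ 0) : ∃ w, Q w = 0 ∧ polar Q x w ≠ 0 := by
  by_contra hcon
  push Not at hcon
  apply hx
  apply hQ.nondeg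
  intro y
  refine hQ.singular_induction (P := fun y => polar Q x y = 0) hcon ?_ y
  intro a b ha hb
  rw [polar_add_right, ha, hb, add_zero]

theorem Nice.exists_singular_polar_eq {Q : QuadraticForm F V} (hQ : Nice Q) {x : V}
    (hx : x ≠ 0) (c : F) : ∃ w, Q w = 0 ∧ polar Q x w = c := by
  obtain ⟨w, hw, hne⟩ := hQ.exists_singular_polar_ne hx
  refine ⟨(c / polar Q x w) • w, ?_, ?_⟩
  · rw [QuadraticMap.map_smul, hw, smul_zero]
  · rw [polar_smul_right, smul_eq_mul, div_mul_cancel₀ _ hne]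

theorem Nice.exists_singular_ne_zero {Q : QuadraticForm F V} (hQ : Nice Q) :
    ∃ w : V, w ≠ 0 ∧ Q w = 0 := by
  obtain ⟨e, f, he, hf, hef⟩ := hQ.pair
  refine ⟨e, ?_, he⟩
  rintro rfl
  simp at hef

variable {Q : QuadraticForm F V}

theorem nondeg_hyp (hQ : ∀ x, (∀ y, polar Q x y = 0) → x = 0) :
    ∀ x, (∀ y, polar (hyp Q) x y = 0) → x = 0 := by
  rintro ⟨a, b, v⟩ h
  have h1 := h (0, 1, 0)
  have h2 := h (1, 0, 0)
  have h3 : ∀ y, polar Q v y = 0 := fun y => by
    have := h (0, 0, y)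
    simpa using this
  have hv := hQ v h3
  subst hv
  simp only [polar_hyp_mk, polar_zero_left] at h1 h2
  simp at h1 h2
  rw [h1, h2]; rfl

theorem nice_hyp (hQ : ∀ x, (∀ y, polar Q x y = 0) → x = 0) : Nice (hyp Q) :=
  ⟨nondeg_hyp hQ, e1, f1, hyp_e1 Q, hyp_f1 Q, by simp [e1, f1]⟩

theorem trans_aux (hQ : Nice Q) (x : F × F × V) (hx : x ≠ 0) :
    ∃ k ∈ Kg Q, k x = (1, hyp Q x, 0) := by
  -- step 3
  have step3 : ∀ b v, ∃ k ∈ Kg Q, k ((1 : F), b, v) = (1, hyp Q (1, b, v), 0) := by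
    intro b v
    refine ⟨rm Q (-v), rm_mem_Kg Q _, ?_⟩
    rw [rm_mk, polar_neg_right, polar_self, QuadraticMap.map_neg]
    refine Prod.ext rfl (Prod.ext ?_ ?_)
    · simp; ring
    · simp
  -- step 2
  have step2 : ∀ a b v, v ≠ 0 → ∃ k ∈ Kg Q, k ((a : F), b, v) = (1, hyp Q (a, b, v), 0) := by
    intro a b v hv
    obtain ⟨w, hw, hwv⟩ := hQ.exists_singular_polar_eq hv (a - 1)
    have h1 : rp Q w (a, b, v) = (1, b, v + b • w) := by
      rw [rp_mk, hwv, hw]
      refine Prod.ext ?_ rfl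
      simp
    obtain ⟨k, hk, hk'⟩ := step3 b (v + b • w)
    refine ⟨k * rp Q w, mul_mem hk (rp_mem_Kg Q w), ?_⟩
    rw [Equiv.Perm.mul_apply, h1, hk', ← h1, Og_map (rp_mem_Og Q w)]
  obtain ⟨a, b, v⟩ := x
  by_cases hv : v = 0
  · subst hv
    obtain ⟨w, hw0, hw⟩ := hQ.exists_singular_ne_zero
    by_cases hb : b = 0
    · subst hb
      have ha : a ≠ 0 := by
        rintro rfl
        exact hx rfl
      have h1 : rm Q w (a, 0, 0) = (a, 0, a • w) := by
        rw [rm_mk, hw]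
        simp
      obtain ⟨k, hk, hk'⟩ := step2 a 0 (a • w) (smul_ne_zero ha hw0)
      refine ⟨k * rm Q w, mul_mem hk (rm_mem_Kg Q w), ?_⟩
      rw [Equiv.Perm.mul_apply, h1, hk', ← h1, Og_map (rm_mem_Og Q w)]
    · have h1 : rp Q w (a, b, 0) = (a, b, b • w) := by
        rw [rp_mk, hw]
        simp
      obtain ⟨k, hk, hk'⟩ := step2 a b (b • w) (smul_ne_zero hb hw0)
      refine ⟨k * rp Q w, mul_mem hk (rp_mem_Kg Q w), ?_⟩
      rw [Equiv.Perm.mul_apply, h1, hk', ← h1, Og_map (rp_mem_Og Q w)]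
  · exact step2 a b v hv

/-- The group generated by `R⁺`, `R⁻` is transitive on non-zero vectors of given norm. -/
theorem Kg_trans (hQ : Nice Q) {x y : F × F × V} (hx : x ≠ 0) (hy : y ≠ 0)
    (hxy : hyp Q x = hyp Q y) : ∃ k ∈ Kg Q, k x = y := by
  obtain ⟨k, hk, hkx⟩ := trans_aux hQ x hx
  obtain ⟨l, hl, hly⟩ := trans_aux hQ y hy
  refine ⟨l⁻¹ * k, mul_mem (inv_mem hl) hk, ?_⟩
  rw [Equiv.Perm.mul_apply, hkx, hxy, ← hly, pinv_apply]

theorem e1_ne : (e1 : F × F × V) ≠ 0 := by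
  intro h
  have := congrArg Prod.fst h
  simp [e1] at this

theorem f1_ne : (f1 : F × F × V) ≠ 0 := by
  intro h
  have := congrArg (fun x => x.2.1) h
  simp [f1] at this

theorem siegel_congr {Q : QuadraticForm F V} {u u' w w' : V} (hu : Q u = 0)
    (hw : polar Q w u = 0) (hu' : Q u' = 0) (hw' : polar Q w' u' = 0) (h1 : u = u')
    (h2 : w = w') : siegel Q u w hu hw = siegel Q u' w' hu' hw' := by
  subst h1; subst h2; rfl

theorem siegel_e1 (w : F × F × V) (hw : polar (hyp Q) w e1 = 0) :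
    siegel (hyp Q) e1 w (hyp_e1 Q) hw = rp Q w.2.2 := by
  obtain ⟨a, b, v⟩ := w
  have hb : b = 0 := by simpa [e1] using hw
  subst hb
  apply Equiv.ext
  rintro ⟨a', b', v'⟩
  rw [siegel_apply]
  simp [e1]
  ring

theorem siegel_zero {Q : QuadraticForm F V} {w : V} (h0 : Q 0 = 0) (hw : polar Q w 0 = 0) :
    siegel Q 0 w h0 hw = 1 := by
  apply Equiv.ext
  intro x
  rw [siegel_apply]
  simp

theorem Om_eq_Kg (hQ : Nice Q) : Om (hyp Q) = Kg Q := by
  apply le_antisymm _ (Kg_le_Om Q)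
  rw [Om_def, Subgroup.closure_le]
  rintro g ⟨u, w, hu, hw, rfl⟩
  by_cases hu0 : u = 0
  · subst hu0
    rw [siegel_zero]; exact one_mem _
  · obtain ⟨k, hk, hke⟩ := Kg_trans hQ e1_ne hu0 (by rw [hu, hyp_e1])
    have hk' : k⁻¹ ∈ Og (hyp Q) := inv_mem (Om_le_Og _ (Kg_le_Om Q hk))
    have hke' : k⁻¹ u = e1 := by rw [← hke, pinv_apply]
    have h1 : hyp Q (k⁻¹ u) = 0 := by rw [hke', hyp_e1]
    have h2 : polar (hyp Q) ((1 : F)⁻¹ • k⁻¹ w) (k⁻¹ u) = 0 := by
      rw [polar_smul_left, polar_Og hk', hw, smul_zero]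
    have h3 := conj_siegel hu hw (mem_Og.1 hk') h1 h2
    have h4 : polar (hyp Q) ((1 : F)⁻¹ • k⁻¹ w) e1 = 0 := by rw [← hke']; exact h2
    rw [siegel_congr h1 h2 (hyp_e1 Q) h4 hke' rfl, siegel_e1] at h3
    have h5 : siegel (hyp Q) u w hu hw = k * rp Q (((1 : F)⁻¹ • k⁻¹ w).2.2) * k⁻¹ := by
      rw [← h3]; group
    rw [h5]
    exact mul_mem (mul_mem hk (rp_mem_Kg Q _)) (inv_mem hk)

theorem Om_trans (hQ : Nice Q) {x y : F × F × V} (hx : x ≠ 0) (hy : y ≠ 0)
    (hxy : hyp Q x = hyp Q y) : ∃ k ∈ Om (hyp Q), k x = y := by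
  rw [Om_eq_Kg hQ]; exact Kg_trans hQ hx hy hxy

/-- Rigidity: an additive map sending every singular vector to a multiple of itself is scalar. -/
theorem scalar_of_singular (hQ : Nice Q) (χ : F × F × V → F × F × V)
    (hadd : ∀ x y, χ (x + y) = χ x + χ y)
    (h : ∀ x, hyp Q x = 0 → ∃ c : F, χ x = c • x) : ∃ c : F, ∀ x, χ x = c • x := by
  obtain ⟨w, hw0, hw⟩ := hQ.exists_singular_ne_zero
  have hws : hyp Q (0, 0, w) = 0 := by simp [hw]
  obtain ⟨c, hc⟩ := h _ hws
  have he : ∀ a : F, χ (a, 0, 0) = c • (a, 0, 0) := by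
    intro a
    obtain ⟨d, hd⟩ := h (a, 0, w) (by simp [hw])
    obtain ⟨d', hd'⟩ := h (a, 0, 0) (by simp)
    have h1 : ((a, 0, w) : F × F × V) = (a, 0, 0) + (0, 0, w) := by simp
    rw [h1, hadd, hd', hc] at hd
    have h2 := congrArg (fun x => x.2.2) hd
    have h3 := congrArg Prod.fst hd
    simp at h2 h3
    have h2 : c = d := smul_left_injective F hw0 h2
    rw [hd']
    refine Prod.ext ?_ (Prod.ext ?_ ?_)
    · rw [h2]; simpa using h3
    · simp
    · simp
  have hf : ∀ b : F, χ (0, b, 0) = c • (0, b, 0) := by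
    intro b
    obtain ⟨d, hd⟩ := h (0, b, w) (by simp [hw])
    obtain ⟨d', hd'⟩ := h (0, b, 0) (by simp)
    have h1 : ((0, b, w) : F × F × V) = (0, b, 0) + (0, 0, w) := by simp
    rw [h1, hadd, hd', hc] at hd
    have h2 := congrArg (fun x => x.2.2) hd
    have h3 := congrArg (fun x => x.2.1) hd
    simp at h2 h3
    have h2 : c = d := smul_left_injective F hw0 h2
    rw [hd']
    refine Prod.ext ?_ (Prod.ext ?_ ?_)
    · simp
    · rw [h2]; simpa using h3
    · simp
  have hv : ∀ v : V, χ (0, 0, v) = c • (0, 0, v) := by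
    intro v
    refine hQ.singular_induction (P := fun v => χ (0, 0, v) = c • (0, 0, v)) ?_ ?_ v
    · intro v hv
      obtain ⟨d, hd⟩ := h (1, 0, v) (by simp [hv])
      obtain ⟨d', hd'⟩ := h (0, 0, v) (by simp [hv])
      have h1 : ((1, 0, v) : F × F × V) = (1, 0, 0) + (0, 0, v) := by simp
      rw [h1, hadd, hd', he] at hd
      have h2 := congrArg (fun x => x.2.2) hd
      have h3 := congrArg Prod.fst hd
      simp at h2 h3
      rw [hd', h3]
      refine Prod.ext ?_ (Prod.ext ?_ ?_)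
      · simp
      · simp
      · exact h2
    · intro x y hx hy
      have h1 : ((0, 0, x + y) : F × F × V) = (0, 0, x) + (0, 0, y) := by simp
      rw [h1, hadd, hx, hy, smul_add]
  refine ⟨c, ?_⟩
  rintro ⟨a, b, v⟩
  have h1 : ((a, b, v) : F × F × V) = (a, 0, 0) + (0, b, 0) + (0, 0, v) := by simp
  rw [h1, hadd, hadd, he, hf, hv, smul_add, smul_add]

/-- A quadratic form vanishing at the singular vectors of `hyp Q` is a multiple of it. -/
theorem multiple_of_vanish (hQ : Nice Q) (Q' : QuadraticForm F (F × F × V))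
    (h : ∀ x, hyp Q x = 0 → Q' x = 0) : ∃ μ : F, ∀ x, Q' x = μ * hyp Q x := by
  refine ⟨polar Q' e1 f1, ?_⟩
  have he : Q' e1 = 0 := h _ (hyp_e1 Q)
  have hf : Q' f1 = 0 := h _ (hyp_f1 Q)
  have hev : ∀ v : V, polar Q' e1 (0, 0, v) = 0 := by
    intro v
    refine hQ.singular_induction (P := fun v => polar Q' e1 (0, 0, v) = 0) ?_ ?_ v
    · intro v hv
      have h1 := h (e1 + (0, 0, v)) (by simp [e1, hv])
      have h2 := h (0, 0, v) (by simp [hv])
      rw [QuadraticMap.map_add (⇑Q'), he, h2] at h1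
      simpa using h1
    · intro x y hx hy
      have h1 : ((0, 0, x + y) : F × F × V) = (0, 0, x) + (0, 0, y) := by simp
      rw [h1, polar_add_right, hx, hy, add_zero]
  have hfv : ∀ v : V, polar Q' f1 (0, 0, v) = 0 := by
    intro v
    refine hQ.singular_induction (P := fun v => polar Q' f1 (0, 0, v) = 0) ?_ ?_ v
    · intro v hv
      have h1 := h (f1 + (0, 0, v)) (by simp [f1, hv])
      have h2 := h (0, 0, v) (by simp [hv])
      rw [QuadraticMap.map_add (⇑Q'), hf, h2] at h1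
      simpa using h1
    · intro x y hx hy
      have h1 : ((0, 0, x + y) : F × F × V) = (0, 0, x) + (0, 0, y) := by simp
      rw [h1, polar_add_right, hx, hy, add_zero]
  have key : ∀ (a b : F) (v : V), Q' (a, b, v) = a * b * polar Q' e1 f1 + Q' (0, 0, v) := by
    intro a b v
    have h1 : ((a, b, v) : F × F × V) = a • e1 + b • f1 + (0, 0, v) := by simp [e1, f1]
    rw [h1, QuadraticMap.map_add (⇑Q'), QuadraticMap.map_add (⇑Q'), polar_add_left Q' (a • e1),
      polar_smul_left Q' a e1 (0, 0, v), polar_smul_left Q' b f1 (0, 0, v), hev, hfv,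
      QuadraticMap.map_smul, QuadraticMap.map_smul,
      he, hf, polar_smul_left, polar_smul_right]
    simp only [smul_eq_mul]
    ring
  have hv : ∀ v : V, Q' (0, 0, v) = Q v * polar Q' e1 f1 := by
    intro v
    have h1 := h (-Q v, 1, v) (by simp)
    rw [key] at h1
    linear_combination h1
  rintro ⟨a, b, v⟩
  rw [key, hv, hyp_mk]
  ring

end Cfsg.Agent.OrthAut.Trans
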