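/-
The projective group `PG Q = Om Q ⧸ center`, its scalars, the action of semisimilarities.
-/
import Cfsg.Agent.OrthAut.Trans

set_option autoImplicit false
set_option linter.unusedSectionVars false

namespace Cfsg.Agent.OrthAut.Proj

open QuadraticMap Cfsg.Agent.OrthAut.Basic Cfsg.Agent.OrthAut.Hyp Cfsg.Agent.OrthAut.Trans

/-- An automorphism of `G` induces one of `G ⧸ Z(G)`. -/
def centerAut (G : Type*) [Group G] : MulAut G →* MulAut (G ⧸ Subgroup.center G) where
  toFun a := QuotientGroup.congr _ _ a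
    (Subgroup.characteristic_iff_map_eq.1 (Subgroup.centerCharacteristic (G := G)) a)
  map_one' := by
    apply MulEquiv.ext
    intro x
    obtain ⟨x, rfl⟩ := QuotientGroup.mk_surjective x
    rfl
  map_mul' a b := by
    apply MulEquiv.ext
    intro x
    obtain ⟨x, rfl⟩ := QuotientGroup.mk_surjective x
    rfl

theorem centerAut_mk {G : Type*} [Group G] (a : MulAut G) (x : G) :
    centerAut G a (QuotientGroup.mk x) = QuotientGroup.mk (a x) := rfl

variable {F V : Type*} [Field F] [AddCommGroup V] [Module F V]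

/-- The group `Om Q` as a type. -/
abbrev G (Q : QuadraticForm F V) : Type _ := ↥(Om Q)

/-- The projective group. -/
abbrev PG (Q : QuadraticForm F V) : Type _ := G Q ⧸ Subgroup.center (G Q)

/-- projection -/
abbrev pr (Q : QuadraticForm F V) : G Q →* PG Q := QuotientGroup.mk' (Subgroup.center (G Q))

/-- conjugation by a semisimilarity, on `Om Q` -/
def conjOm (Q : QuadraticForm F V) : ↥(GammaO Q) →* MulAut (G Q) where
  toFun g :=
    { toFun := fun h => ⟨g * h * (g : Equiv.Perm V)⁻¹, conj_mem_Om g.2 h.2⟩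
      invFun := fun h => ⟨(g : Equiv.Perm V)⁻¹ * h * g, by
        have := conj_mem_Om (inv_mem g.2) h.2
        simpa using this⟩
      left_inv := fun h => by
        apply Subtype.ext
        show (g : Equiv.Perm V)⁻¹ * (g * h * (g : Equiv.Perm V)⁻¹) * g = h
        group
      right_inv := fun h => by
        apply Subtype.ext
        show (g : Equiv.Perm V) * ((g : Equiv.Perm V)⁻¹ * h * g) * (g : Equiv.Perm V)⁻¹ = h
        group
      map_mul' := fun a b => by
        apply Subtype.ext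
        show (g : Equiv.Perm V) * (a * b) * (g : Equiv.Perm V)⁻¹ =
          (g * a * (g : Equiv.Perm V)⁻¹) * (g * b * (g : Equiv.Perm V)⁻¹)
        group }
  map_one' := by
    apply MulEquiv.ext
    intro h
    apply Subtype.ext
    show (1 : Equiv.Perm V) * h * (1 : Equiv.Perm V)⁻¹ = h
    group
  map_mul' a b := by
    apply MulEquiv.ext
    intro h
    apply Subtype.ext
    show ((a : Equiv.Perm V) * b) * h * ((a : Equiv.Perm V) * b)⁻¹ =
      a * (b * h * (b : Equiv.Perm V)⁻¹) * (a : Equiv.Perm V)⁻¹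
    group

theorem conjOm_coe {Q : QuadraticForm F V} (g : ↥(GammaO Q)) (h : G Q) :
    ((conjOm Q g h : G Q) : Equiv.Perm V) = g * h * (g : Equiv.Perm V)⁻¹ := rfl

/-- The action of semisimilarities on the projective group. -/
def Theta (Q : QuadraticForm F V) : ↥(GammaO Q) →* MulAut (PG Q) :=
  (centerAut (G Q)).comp (conjOm Q)

theorem Theta_pr {Q : QuadraticForm F V} (g : ↥(GammaO Q)) (h : G Q) :
    Theta Q g (pr Q h) = pr Q (conjOm Q g h) := rfl

theorem Theta_of_Om {Q : QuadraticForm F V} (g : G Q) (x : PG Q) :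
    Theta Q ⟨g, Om_le_GammaO Q g.2⟩ x = pr Q g * x * (pr Q g)⁻¹ := by
  obtain ⟨x, rfl⟩ := QuotientGroup.mk_surjective x
  rfl

section

variable {Q : QuadraticForm F V}

/-- Fixed vectors of `R⁺`. -/
theorem fixed_rp (hQ : Nice Q) (x : F × F × V) (h : ∀ w, rp Q w x = x) : ∃ a : F, x = (a, 0, 0) := by
  obtain ⟨a, b, v⟩ := x
  obtain ⟨w, hw0, hw⟩ := hQ.exists_singular_ne_zero
  have h1 := congrArg (fun x => x.2.2) (h w)
  simp only [rp_mk, add_eq_left, smul_eq_zero] at h1
  have hb : b = 0 := h1.resolve_right hw0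
  subst hb
  have hv : v = 0 := by
    apply hQ.nondeg
    intro y
    have h2 := congrArg Prod.fst (h y)
    simpa using h2
  exact ⟨a, by rw [hv]⟩

/-- Central elements are scalars `±1`. -/
theorem center_scalar (hQ : Nice Q) (z : G (hyp Q)) (hz : z ∈ Subgroup.center (G (hyp Q))) :
    ∃ ε : F, ε * ε = 1 ∧ ∀ x, (z : Equiv.Perm (F × F × V)) x = ε • x := by
  have hzO := Om_le_Og _ z.2
  rw [Subgroup.mem_center_iff] at hz
  have hz' : ∀ g ∈ Om (hyp Q), ∀ x, g ((z : Equiv.Perm (F × F × V)) x) = z.1 (g x) := by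
    intro g hg x
    have := congrArg (fun (y : G (hyp Q)) => (y : Equiv.Perm (F × F × V)) x) (hz ⟨g, hg⟩)
    exact this
  obtain ⟨a, ha⟩ := fixed_rp hQ (z.1 e1) (fun w => by
    rw [hz' _ (rp_mem_Om Q w)]
    congr 1
    simp [e1])
  obtain ⟨c, hc⟩ := scalar_of_singular hQ (fun x => z.1 x) (fun x y => Og_add hzO x y) (by
    intro x hx
    by_cases hx0 : x = 0
    · subst hx0
      exact ⟨0, by rw [Og_zero hzO, smul_zero]⟩
    · obtain ⟨k, hk, hkx⟩ := Om_trans hQ e1_ne hx0 (by rw [hyp_e1, hx])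
      refine ⟨a, ?_⟩
      show z.1 x = a • x
      rw [← hkx, ← hz' k hk, ha, ← Og_smul (Om_le_Og _ hk)]
      congr 1
      simp [e1])
  refine ⟨c, ?_, hc⟩
  have h1 := Og_map hzO ((1, 1, 0) : F × F × V)
  have h2 : z.1 ((1, 1, 0) : F × F × V) = (c, c, 0) := by
    rw [hc]; simp
  rw [h2] at h1
  simpa using h1

theorem scalar_mem_center (z : G Q) {ε : F}
    (h : ∀ x, (z : Equiv.Perm V) x = ε • x) : z ∈ Subgroup.center (G Q) := by
  rw [Subgroup.mem_center_iff]
  intro g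
  apply Subtype.ext
  apply Equiv.ext
  intro x
  show g.1 (z.1 x) = z.1 (g.1 x)
  rw [h, h, Og_smul (Om_le_Og _ g.2)]

theorem pr_eq_pr (hQ : Nice Q) {a b : G (hyp Q)} (h : pr (hyp Q) a = pr (hyp Q) b) :
    ∃ ε : F, ε * ε = 1 ∧ ∀ x, (a : Equiv.Perm (F × F × V)) x = ε • (b.1 x) := by
  have h1 : b⁻¹ * a ∈ Subgroup.center (G (hyp Q)) := QuotientGroup.eq.1 h.symm
  obtain ⟨ε, hε, hz⟩ := center_scalar hQ _ h1
  refine ⟨ε, hε, fun x => ?_⟩
  rw [← Og_smul (Om_le_Og _ b.2), ← hz x]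
  show a.1 x = b.1 (b.1⁻¹ (a.1 x))
  rw [papply_inv]

theorem pr_eq_pr_of {a b : G Q} {ε : F}
    (h : ∀ x, (a : Equiv.Perm V) x = ε • (b.1 x)) : pr Q a = pr Q b := by
  symm
  apply QuotientGroup.eq.2
  apply scalar_mem_center (ε := ε)
  intro x
  show b.1⁻¹ (a.1 x) = ε • x
  rw [h, Og_smul (inv_mem (Om_le_Og _ b.2)), pinv_apply]

/-- `ρ⁺_w` as an element of the group. -/
def rpG (Q : QuadraticForm F V) (w : V) : G (hyp Q) := ⟨rp Q w, rp_mem_Om Q w⟩

/-- `ρ⁻_w` as an element of the group. -/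
def rmG (Q : QuadraticForm F V) (w : V) : G (hyp Q) := ⟨rm Q w, rm_mem_Om Q w⟩

theorem rpG_add (w w' : V) : rpG Q (w + w') = rpG Q w * rpG Q w' :=
  Subtype.ext (rp_add Q w w')

theorem rmG_add (w w' : V) : rmG Q (w + w') = rmG Q w * rmG Q w' :=
  Subtype.ext (rm_add Q w w')

theorem rpG_inj (hQ : Nice Q) {w w' : V} (h : pr (hyp Q) (rpG Q w) = pr (hyp Q) (rpG Q w')) :
    w = w' := by
  obtain ⟨ε, hε, h1⟩ := pr_eq_pr hQ h
  have h2 := h1 e1
  have h3 := h1 f1
  have h4 : ε = 1 := by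
    have := congrArg Prod.fst h2
    simp [rpG, e1] at this
    exact this.symm
  subst h4
  have := congrArg (fun x => x.2.2) h3
  simpa [rpG, f1] using this

theorem rmG_inj (hQ : Nice Q) {w w' : V} (h : pr (hyp Q) (rmG Q w) = pr (hyp Q) (rmG Q w')) :
    w = w' := by
  obtain ⟨ε, hε, h1⟩ := pr_eq_pr hQ h
  have h2 := h1 f1
  have h3 := h1 e1
  have h4 : ε = 1 := by
    have := congrArg (fun x => x.2.1) h2
    simp [rmG, f1] at this
    exact this.symm
  subst h4
  have := congrArg (fun x => x.2.2) h3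
  simpa [rmG, e1] using this

/-- The projective group is generated by the two root groups. -/
theorem PG_induction (hQ : Nice Q) {P : PG (hyp Q) → Prop}
    (hp : ∀ w, P (pr _ (rpG Q w))) (hm : ∀ w, P (pr _ (rmG Q w)))
    (hmul : ∀ x y, P x → P y → P (x * y)) (hinv : ∀ x, P x → P x⁻¹) (h1 : P 1) (x : PG (hyp Q)) :
    P x := by
  obtain ⟨⟨x, hx⟩, rfl⟩ := QuotientGroup.mk_surjective x
  have hx' := hx
  rw [Om_eq_Kg hQ, Kg_def] at hx'
  have key : ∀ (y : Equiv.Perm (F × F × V)) (_ : y ∈ Subgroup.closure (Set.range (rp Q) ∪ Set.range (rm Q))),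
      ∃ hy : y ∈ Om (hyp Q), P (pr _ ⟨y, hy⟩) := by
    intro y hy
    induction hy using Subgroup.closure_induction with
    | mem y hy =>
      rcases hy with ⟨w, rfl⟩ | ⟨w, rfl⟩
      · exact ⟨rp_mem_Om Q w, hp w⟩
      · exact ⟨rm_mem_Om Q w, hm w⟩
    | one => exact ⟨one_mem _, h1⟩
    | mul a b _ _ ha hb =>
      obtain ⟨ha, ha'⟩ := ha
      obtain ⟨hb, hb'⟩ := hb
      exact ⟨mul_mem ha hb, hmul _ _ ha' hb'⟩
    | inv a _ ha =>
      obtain ⟨ha, ha'⟩ := ha
      exact ⟨inv_mem ha, hinv _ ha'⟩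
  obtain ⟨_, h⟩ := key x hx'
  exact h

end

end Cfsg.Agent.OrthAut.Proj
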