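/-
Counting singular vectors modulo `p`, fixed vectors of `p`-subgroups, Sylow subgroups and the
stabiliser of a singular point.
-/
import Cfsg.Agent.OrthAut.Proj

set_option autoImplicit false
set_option linter.unusedSectionVars false
set_option linter.unusedSimpArgs false

namespace Cfsg.Agent.OrthAut.Fix

open QuadraticMap Cfsg.Agent.OrthAut.Basic Cfsg.Agent.OrthAut.Hyp Cfsg.Agent.OrthAut.Trans
  Cfsg.Agent.OrthAut.Proj

theorem mem_normalizer_of {G : Type*} [Group G] (P N : Subgroup G)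
    (h : ∀ s ∈ P, ∀ n ∈ N, s * n * s⁻¹ ∈ N) : P ≤ Subgroup.normalizer (N : Set G) := by
  intro s hs
  rw [Subgroup.mem_normalizer_iff]
  intro n
  constructor
  · intro hn
    exact h s hs n hn
  · intro hn
    have := h s⁻¹ (inv_mem hs) _ hn
    have e : s⁻¹ * (s * n * s⁻¹) * s⁻¹⁻¹ = n := by group
    rwa [e] at this

theorem le_sylow_of_normalised {G : Type*} [Group G] {p : ℕ} (P : Sylow p G)
    (N : Subgroup G) (hN : IsPGroup p N) (h : ∀ s ∈ P, ∀ n ∈ N, s * n * s⁻¹ ∈ N) :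
    N ≤ P := by
  have h1 : IsPGroup p ((P : Subgroup G) ⊔ N : Subgroup G) :=
    P.2.to_sup_of_normal_right' hN (mem_normalizer_of _ _ h)
  have h2 := P.3 h1 le_sup_left
  rw [← h2]
  exact le_sup_right

theorem exists_fixed {p : ℕ} [Fact p.Prime] {S α : Type*} [Group S] [Finite α]
    (hS : IsPGroup p S) (f : S →* Function.End α) (hα : p ∣ Nat.card α) (a : α)
    (ha : ∀ s, f s a = a) : ∃ b, b ≠ a ∧ ∀ s, f s b = b := by
  letI := MulAction.ofEndHom f
  have ha' : a ∈ MulAction.fixedPoints S α := fun s => ha s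
  obtain ⟨b, hb, hab⟩ := hS.exists_fixed_point_of_prime_dvd_card_of_fixed_point α hα ha'
  exact ⟨b, fun h => hab h.symm, fun s => hb s⟩

variable {F V : Type*} [Field F] [AddCommGroup V] [Module F V]

theorem prime_dvd_card (p : ℕ) [Fact p.Prime] [CharP F p] [Finite F] [Finite V] [Nontrivial V] :
    p ∣ Nat.card V := by
  have h1 : p ∣ Nat.card F := by
    have := Fintype.ofFinite F
    rw [Nat.card_eq_fintype_card]
    obtain ⟨n, hp, hn⟩ := FiniteField.card F p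
    rw [hn]
    exact dvd_pow_self p n.ne_zero
  rw [Module.natCard_eq_pow_finrank (K := F)]
  have h2 : Module.finrank F V ≠ 0 := Module.finrank_pos.ne'
  exact dvd_pow h1 h2

/-- The number of singular vectors is divisible by `p`. -/
theorem prime_dvd_card_singular (p : ℕ) [Fact p.Prime] [CharP F p] [Finite F] [Finite V]
    [Nontrivial V] (Q : QuadraticForm F V) :
    p ∣ Nat.card {x : F × F × V // hyp Q x = 0} := by
  classical
  let E : {x : F × F × V // hyp Q x = 0} ≃ ({b : F // b ≠ 0} × V) ⊕ (F × {v : V // Q v = 0}) :=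
    { toFun := fun x => if h : x.1.2.1 ≠ 0 then Sum.inl (⟨x.1.2.1, h⟩, x.1.2.2) else
        Sum.inr (x.1.1, ⟨x.1.2.2, by
          have := x.2
          rw [hyp_apply, not_not.1 h] at this
          simpa using this⟩)
      invFun := fun y => match y with
        | Sum.inl (b, v) => ⟨(-Q v / b.1, b.1, v), by
            rw [hyp_mk, div_mul_cancel₀ _ b.2]; ring⟩
        | Sum.inr (a, v) => ⟨(a, 0, v.1), by
            rw [hyp_mk, v.2]; ring⟩
      left_inv := by
        rintro ⟨⟨a, b, v⟩, hx⟩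
        by_cases hb : b = 0
        · subst hb
          simp
        · have h1 : a * b + Q v = 0 := hx
          simp only [ne_eq, hb, not_false_eq_true, dite_true]
          apply Subtype.ext
          refine Prod.ext ?_ rfl
          simp only
          field_simp
          linear_combination -h1
      right_inv := by
        rintro (⟨⟨b, hb⟩, v⟩ | ⟨a, v, hv⟩)
        · simp [hb]
        · simp }
  rw [Nat.card_congr E, Nat.card_sum, Nat.card_prod, Nat.card_prod]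
  exact dvd_add (Dvd.dvd.mul_left (prime_dvd_card (F := F) p) _)
    (Dvd.dvd.mul_right (prime_dvd_card (F := F) p) _)

/-- A `p`-group of isometries fixes a non-zero singular vector. -/
theorem exists_fixed_singular {p : ℕ} [Fact p.Prime] [CharP F p] [Finite F] [Finite V]
    [Nontrivial V] (Q : QuadraticForm F V) {S : Type*} [Group S] (hS : IsPGroup p S)
    (f : S →* Equiv.Perm (F × F × V)) (hf : ∀ s, f s ∈ Og (hyp Q)) :
    ∃ x, x ≠ 0 ∧ hyp Q x = 0 ∧ ∀ s, f s x = x := by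
  let f' : S →* Function.End {x : F × F × V // hyp Q x = 0} :=
    { toFun := fun s x => ⟨f s x.1, by rw [Og_map (hf s)]; exact x.2⟩
      map_one' := by
        funext x
        apply Subtype.ext
        show f 1 x.1 = x.1
        rw [map_one]; rfl
      map_mul' := fun s t => by
        funext x
        apply Subtype.ext
        show f (s * t) x.1 = f s (f t x.1)
        rw [map_mul]; rfl }
  obtain ⟨b, hb, hb'⟩ := exists_fixed hS f' (prime_dvd_card_singular p Q) ⟨0, map_zero _⟩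
    (fun s => Subtype.ext (Og_zero (hf s)))
  refine ⟨b.1, fun h => hb (Subtype.ext h), b.2, fun s => ?_⟩
  exact congrArg Subtype.val (hb' s)

section stab

variable {Q : QuadraticForm F V}

/-- the action on `e^⊥/e` -/
def res0 (g : Equiv.Perm (F × F × V)) (x : V) : V := (g (0, 0, x)).2.2

theorem res0_def (g : Equiv.Perm (F × F × V)) (x : V) : res0 g x = (g (0, 0, x)).2.2 := rfl

theorem snd_of_perp {x : F × F × V} (h : polar (hyp Q) x e1 = 0) : x.2.1 = 0 := by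
  obtain ⟨a, b, v⟩ := x
  simpa [e1] using h

theorem smul_e1 (c : F) : c • (e1 : F × F × V) = (c, 0, 0) := by simp [e1]

theorem ne_zero_of_e1 {g : Equiv.Perm (F × F × V)} (hg : g ∈ Og (hyp Q)) {c : F}
    (hc : g e1 = c • e1) : c ≠ 0 := by
  rintro rfl
  rw [zero_smul, ← Og_zero hg] at hc
  exact e1_ne (g.injective hc)

theorem res0_spec {g : Equiv.Perm (F × F × V)} (hg : g ∈ Og (hyp Q)) {c : F}
    (hc : g e1 = c • e1) (x : V) : ∃ a : F, g (0, 0, x) = (a, 0, res0 g x) := by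
  have hc0 := ne_zero_of_e1 hg hc
  have h1 : polar (hyp Q) (g (0, 0, x)) e1 = 0 := by
    have h2 := polar_Og hg (0, 0, x) e1
    rw [hc, polar_smul_right, polar_in_e1, smul_eq_mul] at h2
    exact (mul_eq_zero.1 h2).resolve_left hc0
  have h2 := snd_of_perp h1
  refine ⟨(g (0, 0, x)).1, ?_⟩
  refine Prod.ext rfl (Prod.ext h2 rfl)

theorem res0_map {g : Equiv.Perm (F × F × V)} (hg : g ∈ Og (hyp Q)) {c : F}
    (hc : g e1 = c • e1) (x : V) : Q (res0 g x) = Q x := by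
  obtain ⟨a, ha⟩ := res0_spec hg hc x
  have := Og_map hg (0, 0, x)
  rw [ha] at this
  simpa using this

theorem res0_mul {g h : Equiv.Perm (F × F × V)} (hg : g ∈ Og (hyp Q)) (hh : h ∈ Og (hyp Q))
    {c d : F} (hc : g e1 = c • e1) (hd : h e1 = d • e1) (x : V) :
    res0 (g * h) x = res0 g (res0 h x) := by
  obtain ⟨a, ha⟩ := res0_spec hh hd x
  obtain ⟨b, hb⟩ := res0_spec hg hc (res0 h x)
  rw [res0_def, Equiv.Perm.mul_apply, ha]
  have : ((a, 0, res0 h x) : F × F × V) = a • e1 + (0, 0, res0 h x) := by simp [e1]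
  rw [this, Og_add hg, Og_smul hg, hc, hb]
  simp [e1]

theorem res0_add {g : Equiv.Perm (F × F × V)} (hg : g ∈ Og (hyp Q)) (x y : V) :
    res0 g (x + y) = res0 g x + res0 g y := by
  have : ((0, 0, x + y) : F × F × V) = (0, 0, x) + (0, 0, y) := by simp
  rw [res0_def, this, Og_add hg]; rfl

theorem res0_smul {g : Equiv.Perm (F × F × V)} (hg : g ∈ Og (hyp Q)) (c : F) (x : V) :
    res0 g (c • x) = c • res0 g x := by
  have : ((0, 0, c • x) : F × F × V) = c • (0, 0, x) := by simp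
  rw [res0_def, this, Og_smul hg]; rfl

theorem conj_rp {g : Equiv.Perm (F × F × V)} (hg : g ∈ Og (hyp Q)) {c : F}
    (hc : g e1 = c • e1) (w : V) : g * rp Q w * g⁻¹ = rp Q (c • res0 g w) := by
  obtain ⟨a, ha⟩ := res0_spec hg hc w
  have h1 : hyp Q (g e1) = 0 := by rw [Og_map hg, hyp_e1]
  have h2 : polar (hyp Q) ((1 : F)⁻¹ • g (0, 0, w)) (g e1) = 0 := by
    rw [polar_smul_left, polar_Og hg, polar_in_e1, smul_zero]
  rw [rp_eq_siegel, conj_siegel _ _ hg h1 h2]
  apply Equiv.ext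
  rintro ⟨x, y, z⟩
  rw [siegel_apply, rp_mk, ha, hc]
  simp only [e1, inv_one, one_smul, Prod.smul_mk, polar_hyp_mk, hyp_mk, smul_eq_mul, mul_one,
    mul_zero, smul_zero, polar_zero_right, add_zero, zero_add, QuadraticMap.map_smul,
    polar_smul_right, zero_mul, Prod.mk_add_mk, Prod.mk_sub_mk, sub_zero]
  refine Prod.ext ?_ (Prod.ext ?_ ?_)
  · simp only; ring
  · simp only
  · simp only; module

/-- the elements of the stabiliser of `e` acting trivially on `e^⊥/e` form `R⁺` -/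
theorem mem_R_of (hQ : Nice Q) {g : Equiv.Perm (F × F × V)} (hg : g ∈ Og (hyp Q))
    (he : g e1 = e1) (h0 : ∀ x, res0 g x = x) : ∃ w, g = rp Q w := by
  have he' : g e1 = (1 : F) • e1 := by rw [one_smul, he]
  refine ⟨(g f1).2.2, ?_⟩
  set w := (g f1).2.2 with hw
  have h1 : (g f1).2.1 = 1 := by
    have := polar_Og hg f1 e1
    rw [he] at this
    have h2 : polar (hyp Q) (f1 : F × F × V) e1 = 1 := by simp [e1, f1]
    rw [h2] at this
    have h3 : ∀ y : F × F × V, polar (hyp Q) y e1 = y.2.1 := by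
      rintro ⟨a, b, v⟩; simp [e1]
    rw [h3] at this
    exact this
  have hh : rp Q (-w) * g ∈ Og (hyp Q) := mul_mem (rp_mem_Og Q _) hg
  have hhe : (rp Q (-w) * g) e1 = e1 := by
    rw [Equiv.Perm.mul_apply, he]; simp [e1]
  have hhf : (rp Q (-w) * g) f1 = f1 := by
    have h2 : g f1 = ((g f1).1, 1, w) := Prod.ext rfl (Prod.ext h1 rfl)
    have h3 : ∃ t : F, (rp Q (-w) * g) f1 = (t, 1, 0) := by
      rw [Equiv.Perm.mul_apply, h2, rp_mk]
      exact ⟨_, by simp; rfl⟩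
    obtain ⟨t, ht⟩ := h3
    have h4 := Og_map hh f1
    rw [ht, hyp_f1] at h4
    have h5 : t = 0 := by simpa using h4
    rw [ht, h5]; rfl
  have hhx : ∀ x, (rp Q (-w) * g) (0, 0, x) = (0, 0, x) := by
    intro x
    obtain ⟨a, ha⟩ := res0_spec hg he' x
    rw [h0] at ha
    have h2 := polar_Og hh (0, 0, x) f1
    rw [hhf, polar_in_f1] at h2
    have h3 : (rp Q (-w) * g) (0, 0, x) = ((rp Q (-w)) (a, 0, x)) := by
      rw [Equiv.Perm.mul_apply, ha]
    rw [h3] at h2 ⊢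
    rw [rp_mk] at h2 ⊢
    simp [f1] at h2
    simp [h2]
  have hfin : rp Q (-w) * g = 1 := by
    apply Equiv.ext
    rintro ⟨a, b, x⟩
    have : ((a, b, x) : F × F × V) = a • e1 + b • f1 + (0, 0, x) := by simp [e1, f1]
    rw [this, Og_add hh, Og_add hh, Og_smul hh, Og_smul hh, hhe, hhf, hhx]
    rfl
  rw [rp_neg, inv_mul_eq_one] at hfin
  exact hfin.symm

/-- The stabiliser of the point `⟨e⟩`. -/
def Pe (Q : QuadraticForm F V) : Subgroup (G (hyp Q)) where
  carrier := {g | ∃ c : F, g.1 e1 = c • e1}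
  mul_mem' := by
    rintro a b ⟨c, hc⟩ ⟨d, hd⟩
    refine ⟨d * c, ?_⟩
    show a.1 (b.1 e1) = _
    rw [hd, Og_smul (Om_le_Og _ a.2), hc, smul_smul]
  one_mem' := ⟨1, by rw [one_smul]; rfl⟩
  inv_mem' := by
    rintro a ⟨c, hc⟩
    have hc0 := ne_zero_of_e1 (Om_le_Og _ a.2) hc
    refine ⟨c⁻¹, ?_⟩
    show a.1⁻¹ e1 = _
    have h1 : (e1 : F × F × V) = a.1 (c⁻¹ • e1) := by
      rw [Og_smul (Om_le_Og _ a.2), hc, smul_smul, inv_mul_cancel₀ hc0, one_smul]
    conv_lhs => rw [h1]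
    rw [pinv_apply]

theorem mem_Pe {g : G (hyp Q)} : g ∈ Pe Q ↔ ∃ c : F, g.1 e1 = c • e1 := Iff.rfl

/-- The group `R⁺`. -/
def Re (Q : QuadraticForm F V) : Subgroup (G (hyp Q)) where
  carrier := {g | ∃ w, g = rpG Q w}
  mul_mem' := by
    rintro a b ⟨w, rfl⟩ ⟨w', rfl⟩
    exact ⟨w + w', (rpG_add w w').symm⟩
  one_mem' := ⟨0, Subtype.ext (rp_zero Q).symm⟩
  inv_mem' := by
    rintro a ⟨w, rfl⟩
    exact ⟨-w, Subtype.ext (rp_neg Q w).symm⟩

theorem mem_Re {g : G (hyp Q)} : g ∈ Re Q ↔ ∃ w, g = rpG Q w := Iff.rfl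

theorem rpG_e1 (w : V) : (rpG Q w).1 e1 = e1 := by
  show rp Q w e1 = e1
  simp [e1]

theorem Re_le_Pe : Re Q ≤ Pe Q := by
  rintro g ⟨w, rfl⟩
  exact ⟨1, by rw [one_smul, rpG_e1]⟩

theorem Pe_conj_Re {g n : G (hyp Q)} (hg : g ∈ Pe Q) (hn : n ∈ Re Q) : g * n * g⁻¹ ∈ Re Q := by
  obtain ⟨c, hc⟩ := hg
  obtain ⟨w, rfl⟩ := hn
  exact ⟨_, Subtype.ext (conj_rp (Om_le_Og _ g.2) hc w)⟩

theorem rp_nsmul (n : ℕ) (w : V) : rpG Q w ^ n = rpG Q (n • w) := by
  induction n with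
  | zero => rw [pow_zero, zero_smul]; exact Subtype.ext (rp_zero Q).symm
  | succ n ih => rw [pow_succ, ih, succ_nsmul, rpG_add]

theorem Re_isPGroup (p : ℕ) [CharP F p] : IsPGroup p (Re Q) := by
  rintro ⟨g, w, rfl⟩
  refine ⟨1, Subtype.ext ?_⟩
  show rpG Q w ^ p ^ 1 = 1
  rw [pow_one, rp_nsmul]
  have : (p : ℕ) • w = 0 := by
    rw [← Nat.cast_smul_eq_nsmul F, CharP.cast_eq_zero, zero_smul]
  rw [this]
  exact Subtype.ext (rp_zero Q)

/-- Some Sylow subgroup fixes `e`. -/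
theorem exists_sylow_fix (hQ : Nice Q) (p : ℕ) [Fact p.Prime] [CharP F p] [Finite F] [Finite V] :
    ∃ S : Sylow p (G (hyp Q)), ∀ s ∈ S, s.1 e1 = e1 := by
  obtain ⟨w, hw0, _⟩ := hQ.exists_singular_ne_zero
  haveI : Nontrivial V := ⟨w, 0, hw0⟩
  let S : Sylow p (G (hyp Q)) := default
  obtain ⟨x, hx0, hx, hfix⟩ := exists_fixed_singular Q S.2
    ((Om (hyp Q)).subtype.comp (S : Subgroup (G (hyp Q))).subtype) (fun s => Om_le_Og _ s.1.2)
  obtain ⟨k, hk, hkx⟩ := Om_trans hQ hx0 e1_ne (by rw [hx, hyp_e1])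
  refine ⟨(⟨k, hk⟩ : G (hyp Q)) • S, ?_⟩
  intro s hs
  rw [Sylow.smul_def] at hs
  have hs' : (⟨k, hk⟩ : G (hyp Q))⁻¹ * s * ⟨k, hk⟩ ∈ S := by
    obtain ⟨t, ht, hts⟩ := hs
    have : s = (⟨k, hk⟩ : G (hyp Q)) * t * (⟨k, hk⟩ : G (hyp Q))⁻¹ := hts.symm
    rw [this]
    have e : (⟨k, hk⟩ : G (hyp Q))⁻¹ * (⟨k, hk⟩ * t * (⟨k, hk⟩ : G (hyp Q))⁻¹) * ⟨k, hk⟩ = t := by
      group
    rw [e]; exact ht
  have h1 : k⁻¹ (s.1 (k x)) = x := hfix ⟨_, hs'⟩
  rw [← hkx]
  conv_rhs => rw [← h1]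
  rw [papply_inv]

/-- `R⁺` lies in every Sylow subgroup fixing `e`. -/
theorem Re_le_sylow {p : ℕ} [Fact p.Prime] [CharP F p] (S : Sylow p (G (hyp Q)))
    (hS : ∀ s ∈ S, s.1 e1 = e1) : Re Q ≤ S := by
  apply le_sylow_of_normalised S _ (Re_isPGroup p)
  intro s hs n hn
  exact Pe_conj_Re ⟨1, by rw [one_smul, hS s hs]⟩ hn

end stab

end Cfsg.Agent.OrthAut.Fix
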