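/-
`R⁺` is the largest normal `p`-subgroup of the stabiliser of `⟨e⟩`.
-/
import Cfsg.Agent.OrthAut.Fix

set_option autoImplicit false
set_option linter.unusedSectionVars false
set_option linter.unusedSimpArgs false
set_option linter.unusedVariables false

namespace Cfsg.Agent.OrthAut.Para

open QuadraticMap Cfsg.Agent.OrthAut.Basic Cfsg.Agent.OrthAut.Hyp Cfsg.Agent.OrthAut.Trans
  Cfsg.Agent.OrthAut.Proj Cfsg.Agent.OrthAut.Fix

variable {F V : Type*} [Field F] [AddCommGroup V] [Module F V]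

variable {Q : QuadraticForm F V}

/-- image of the stabiliser of the point in the projective group -/
def Peb (Q : QuadraticForm F V) : Subgroup (PG (hyp Q)) := (Pe Q).map (pr (hyp Q))

/-- image of `R⁺` in the projective group -/
def Reb (Q : QuadraticForm F V) : Subgroup (PG (hyp Q)) := (Re Q).map (pr (hyp Q))

theorem mem_Peb {y : PG (hyp Q)} : y ∈ Peb Q ↔ ∃ g ∈ Pe Q, pr _ g = y := Subgroup.mem_map

theorem mem_Reb {y : PG (hyp Q)} : y ∈ Reb Q ↔ ∃ w, pr _ (rpG Q w) = y := by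
  constructor
  · rintro ⟨g, ⟨w, rfl⟩, hg⟩
    exact ⟨w, hg⟩
  · rintro ⟨w, hw⟩
    exact ⟨_, ⟨w, rfl⟩, hw⟩

theorem pr_mem_Peb (hQ : Nice Q) {g : G (hyp Q)} : pr _ g ∈ Peb Q ↔ g ∈ Pe Q := by
  constructor
  · rintro ⟨h, hh, hgh⟩
    obtain ⟨ε, hε, h1⟩ := pr_eq_pr hQ hgh
    obtain ⟨c, hc⟩ := hh
    have hε0 : ε ≠ 0 := by rintro rfl; simp at hε
    refine ⟨ε * c, ?_⟩
    have h2 := h1 e1
    have h3 : g.1 e1 = ε • (ε • g.1 e1) := by rw [smul_smul, hε, one_smul]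
    rw [h3, ← h2, hc, smul_smul]
  · intro hg
    exact ⟨g, hg, rfl⟩

theorem Peb_conj_Reb {g n : PG (hyp Q)} (hg : g ∈ Peb Q) (hn : n ∈ Reb Q) :
    g * n * g⁻¹ ∈ Reb Q := by
  obtain ⟨g, hg, rfl⟩ := hg
  obtain ⟨n, hn, rfl⟩ := hn
  exact ⟨g * n * g⁻¹, Pe_conj_Re hg hn, by simp⟩

theorem Reb_le_Peb : Reb Q ≤ Peb Q := Subgroup.map_mono Re_le_Pe

/-- For a `p`-subgroup `S` of the stabiliser of the vector `e`, a fixed singular vector in
`e^⊥/e`. -/
theorem exists_fixed_res0 {Q₁ : QuadraticForm F V} (hQ : Nice Q₁) {p : ℕ} [Fact p.Prime]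
    [CharP F p] [Finite F] [Finite V] (S : Subgroup (G (hyp (hyp Q₁)))) (hS : IsPGroup p S)
    (hfix : ∀ s ∈ S, s.1 e1 = e1) :
    ∃ x : F × F × V, x ≠ 0 ∧ hyp Q₁ x = 0 ∧ ∀ s ∈ S, res0 s.1 x = x := by
  obtain ⟨w, hw0, _⟩ := hQ.exists_singular_ne_zero
  have : Nontrivial V := ⟨w, 0, hw0⟩
  let f' : S →* Function.End {x : F × F × V // hyp Q₁ x = 0} :=
    { toFun := fun s x => ⟨res0 s.1.1 x.1, by
        rw [res0_map (Om_le_Og _ s.1.2) (c := 1) (by rw [hfix _ s.2, one_smul])]; exact x.2⟩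
      map_one' := by
        funext x
        apply Subtype.ext
        rfl
      map_mul' := fun s t => by
        funext x
        apply Subtype.ext
        exact res0_mul (Om_le_Og _ s.1.2) (Om_le_Og _ t.1.2) (c := 1) (d := 1)
          (by rw [hfix _ s.2, one_smul]) (by rw [hfix _ t.2, one_smul]) x.1 }
  obtain ⟨b, hb, hb'⟩ := exists_fixed hS f' (prime_dvd_card_singular p Q₁) ⟨0, map_zero _⟩
    (fun s => Subtype.ext (by
      show res0 s.1.1 0 = 0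
      rw [res0_def]
      have : ((0, 0, 0) : F × F × (F × F × V)) = 0 := rfl
      rw [this, Og_zero (Om_le_Og _ s.1.2)]; rfl))
  refine ⟨b.1, fun h => hb (Subtype.ext h), b.2, fun s hs => ?_⟩
  exact congrArg Subtype.val (hb' ⟨s, hs⟩)

/-- A normal `p`-subgroup of the stabiliser of `⟨e⟩` lies in `R⁺`. -/
theorem normal_p_le {Q₁ : QuadraticForm F V} (hQ : Nice Q₁) {p : ℕ} [Fact p.Prime]
    [CharP F p] [Finite F] [Finite V] (N : Subgroup (PG (hyp (hyp Q₁)))) (hN : IsPGroup p N)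
    (hnorm : ∀ g ∈ Peb (hyp Q₁), ∀ n ∈ N, g * n * g⁻¹ ∈ N) :
    N ≤ Reb (hyp Q₁) := by
  have hQ0 : Nice (hyp Q₁) := nice_hyp hQ.nondeg
  obtain ⟨S, hS⟩ := exists_sylow_fix hQ0 p
  have hSP : (S : Subgroup (G (hyp (hyp Q₁)))) ≤ Pe (hyp Q₁) := fun s hs =>
    ⟨1, by rw [one_smul, hS s hs]⟩
  obtain ⟨x0, hx00, hx0, hx0f⟩ := exists_fixed_res0 hQ (S : Subgroup _) S.2 hS
  have hsurj : Function.Surjective (pr (hyp (hyp Q₁))) := QuotientGroup.mk'_surjective _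
  let Sb : Sylow p (PG (hyp (hyp Q₁))) := S.mapSurjective hsurj
  have hSb : ∀ y, y ∈ Sb ↔ ∃ s ∈ S, pr _ s = y := by
    intro y
    show y ∈ (Sb : Subgroup _) ↔ _
    rw [Sylow.coe_mapSurjective]
    exact Subgroup.mem_map
  have hNS : N ≤ Sb := by
    apply le_sylow_of_normalised Sb N hN
    intro s hs n hn
    obtain ⟨t, ht, rfl⟩ := (hSb s).1 hs
    exact hnorm _ ⟨t, hSP ht, rfl⟩ n hn
  intro n hn
  obtain ⟨g, hgS, rfl⟩ := (hSb n).1 (hNS hn)
  have hge : g.1 e1 = e1 := hS g hgS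
  have hgO := Om_le_Og _ g.2
  have hge' : g.1 e1 = (1 : F) • e1 := by rw [one_smul, hge]
  -- `g` acts trivially on singular vectors of `e^⊥/e`
  have key : ∀ x, hyp Q₁ x = 0 → res0 g.1 x = x := by
    intro x hx
    by_cases hxz : x = 0
    · subst hxz
      have : res0 g.1 ((0 : F) • (0 : F × F × V)) = (0 : F) • res0 g.1 0 := res0_smul hgO 0 0
      rw [zero_smul, zero_smul] at this
      exact this
    obtain ⟨k, hk, hkx⟩ := Om_trans hQ hx00 hxz (by rw [hx0, hx])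
    let h : G (hyp (hyp Q₁)) := ⟨ext0 k, ext0_mem_Om (hyp Q₁) hk⟩
    have hhe : h.1 e1 = e1 := by
      show ext0 k (1, 0, 0) = (1, 0, 0)
      rw [ext0_mk, Og_zero (Om_le_Og _ hk)]
    have hhe' : h.1 e1 = (1 : F) • e1 := by rw [one_smul, hhe]
    have hhP : h⁻¹ ∈ Pe (hyp Q₁) := inv_mem ⟨1, hhe'⟩
    have h1 := hnorm (pr _ h⁻¹) ⟨h⁻¹, hhP, rfl⟩ _ hn
    obtain ⟨g', hg', hgg'⟩ := (hSb _).1 (hNS h1)
    have h2 : pr (hyp (hyp Q₁)) (h⁻¹ * g * h) = pr _ g' := by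
      rw [hgg']
      rw [map_mul, map_mul]
      congr 1
    obtain ⟨ε, hε, h3⟩ := pr_eq_pr hQ0 h2
    have h4 : h.1⁻¹ e1 = e1 := by
      conv_lhs => rw [← hhe]
      rw [pinv_apply]
    have hε1 : ε = 1 := by
      have h5 := h3 e1
      have h6 : (h⁻¹ * g * h).1 e1 = e1 := by
        show h.1⁻¹ (g.1 (h.1 e1)) = e1
        rw [hhe, hge, h4]
      rw [h6, hS g' hg'] at h5
      have h7 := congrArg Prod.fst h5
      simp [e1] at h7
      exact h7.symm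
    subst hε1
    -- compute res0 of both sides at x0
    have h5 : res0 (h⁻¹ * g * h).1 x0 = res0 g'.1 x0 := by
      rw [res0_def, res0_def, h3, one_smul]
    rw [hx0f g' hg'] at h5
    have h6 : res0 (h⁻¹ * g * h).1 x0 = res0 h.1⁻¹ (res0 g.1 (res0 h.1 x0)) := by
      have hhO := Om_le_Og _ h.2
      have e1' : (h⁻¹ * g * h).1 = h.1⁻¹ * (g.1 * h.1) := by
        show h.1⁻¹ * g.1 * h.1 = _
        rw [mul_assoc]
      rw [e1', res0_mul (inv_mem hhO) (mul_mem hgO hhO) (c := 1) (d := 1) (by rw [h4, one_smul])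
        (by rw [Equiv.Perm.mul_apply, hhe, hge, one_smul]), res0_mul hgO hhO hge' hhe']
    have h7 : ∀ y, res0 h.1 y = k y := fun y => rfl
    have h8 : res0 h.1 (res0 h.1⁻¹ (res0 g.1 (res0 h.1 x0))) = res0 g.1 (res0 h.1 x0) := by
      rw [← res0_mul (Om_le_Og _ h.2) (inv_mem (Om_le_Og _ h.2)) (c := 1) (d := 1) hhe'
        (by rw [h4, one_smul]), mul_inv_cancel]
      rfl
    rw [← h6, h5] at h8
    rw [h7, hkx] at h8
    exact h8.symm
  have key' : ∀ x, res0 g.1 x = x := by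
    intro x
    refine hQ0.singular_induction (P := fun x => res0 g.1 x = x) key ?_ x
    intro x y hx hy
    rw [res0_add hgO, hx, hy]
  obtain ⟨w, hw⟩ := mem_R_of hQ0 hgO hge key'
  exact ⟨g, ⟨w, Subtype.ext hw⟩, rfl⟩

end Cfsg.Agent.OrthAut.Para
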