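/-
Key step: the image of the stabiliser of `⟨e⟩` under an automorphism stabilises a totally
singular subspace, which is a point unless it is self-perpendicular.
-/
import Cfsg.Agent.OrthAut.Para

set_option autoImplicit false
set_option linter.unusedSectionVars false
set_option linter.unusedSimpArgs false
set_option linter.unusedVariables false

namespace Cfsg.Agent.OrthAut.Key

open QuadraticMap Cfsg.Agent.OrthAut.Basic Cfsg.Agent.OrthAut.Hyp Cfsg.Agent.OrthAut.Trans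
  Cfsg.Agent.OrthAut.Proj Cfsg.Agent.OrthAut.Fix Cfsg.Agent.OrthAut.Para

variable {F V : Type*} [Field F] [AddCommGroup V] [Module F V]

section gen

variable {Q : QuadraticForm F V}

/-- perpendicular subspace w.r.t. the polar form -/
def perp (Q : QuadraticForm F V) (T : Submodule F V) : Submodule F V where
  carrier := {x | ∀ t ∈ T, polar Q x t = 0}
  add_mem' := by
    intro a b ha hb t ht
    rw [polar_add_left, ha t ht, hb t ht, add_zero]
  zero_mem' := fun t _ => by rw [polar_zero_left]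
  smul_mem' := by
    intro c a ha t ht
    rw [polar_smul_left, ha t ht, smul_zero]

theorem mem_perp {T : Submodule F V} {x : V} : x ∈ perp Q T ↔ ∀ t ∈ T, polar Q x t = 0 := Iff.rfl

/-- isometries as endomorphisms -/
def toEnd (Q : QuadraticForm F V) : ↥(Og Q) →* Module.End F V where
  toFun g :=
    { toFun := g.1
      map_add' := Og_add g.2
      map_smul' := Og_smul g.2 }
  map_one' := rfl
  map_mul' _ _ := rfl

theorem toEnd_apply (g : ↥(Og Q)) (x : V) : toEnd Q g x = g.1 x := rfl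

theorem pow_eq_one_of_unip {p : ℕ} [Fact p.Prime] [CharP F p] {g : Equiv.Perm V} (hg : g ∈ Og Q)
    (h : ∀ x, g (g (g x - x) - (g x - x)) = g (g x - x) - (g x - x)) : g ^ (p ^ 2) = 1 := by
  by_cases htriv : Nontrivial V
  · have : CharP (Module.End F V) p :=
      charP_of_injective_algebraMap (algebraMap F (Module.End F V)).injective p
    set A : Module.End F V := toEnd Q ⟨g, hg⟩ with hA
    have hA' : ∀ x, A x = g x := fun x => rfl
    have h3 : (A - 1) ^ 3 = 0 := by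
      apply LinearMap.ext
      intro x
      rw [pow_succ, pow_two]
      simp only [Module.End.mul_apply, LinearMap.sub_apply, Module.End.one_apply, hA',
        LinearMap.zero_apply]
      rw [h x, sub_self]
    have h4 : (A - 1) ^ (p ^ 2) = 0 := by
      have hp : 3 ≤ p ^ 2 := by
        have := (Fact.out : p.Prime).two_le
        nlinarith
      obtain ⟨k, hk⟩ := Nat.exists_eq_add_of_le hp
      rw [hk, pow_add, h3, zero_mul]
    have h5 : A ^ (p ^ 2) = 1 := by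
      have := sub_pow_char_pow_of_commute (p := p) (n := 2) (Commute.one_right A)
      rw [h4, one_pow] at this
      exact (sub_eq_zero.1 this.symm)
    apply Equiv.ext
    intro x
    have h6 : toEnd Q (⟨g, hg⟩ ^ (p ^ 2)) = 1 := by rw [map_pow]; exact h5
    have h7 := congrArg (fun f : Module.End F V => f x) h6
    exact h7
  · rw [not_nontrivial_iff_subsingleton] at htriv
    exact Subsingleton.elim _ _

theorem exists_perp_ne_zero [FiniteDimensional F V]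
    (hnd : ∀ x, (∀ y, polar Q x y = 0) → x = 0) {W : Submodule F V} (hW : W ≠ ⊤) :
    ∃ y ∈ perp Q W, y ≠ 0 := by
  obtain ⟨f, hf0, hf⟩ := Submodule.exists_le_ker_of_lt_top W (lt_top_iff_ne_top.2 hW)
  have hinj : Function.Injective (polarBilin Q) := by
    rw [injective_iff_map_eq_zero]
    intro x hx
    apply hnd
    intro y
    have := congrArg (fun l => l y) hx
    exact this
  have hsurj : Function.Surjective (polarBilin Q) :=
    (LinearMap.injective_iff_surjective_of_finrank_eq_finrank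
      (Subspace.dual_finrank_eq (K := F) (V := V)).symm).1 hinj
  obtain ⟨y, hy⟩ := hsurj f
  refine ⟨y, ?_, ?_⟩
  · intro t ht
    have := congrArg (fun l => l t) hy
    have h2 : f t = 0 := hf ht
    rw [← h2]; exact this
  · rintro rfl
    rw [map_zero] at hy
    exact hf0 hy.symm

end gen

section kt

variable {Q : QuadraticForm F V}

/-- elements acting trivially on `T` and on `T^⊥/T` -/
def KT (Q : QuadraticForm F V) (T : Submodule F (F × F × V)) : Subgroup (G (hyp Q)) where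
  carrier := {g | (∀ t ∈ T, g.1 t = t) ∧ ∀ x ∈ perp (hyp Q) T, g.1 x - x ∈ T}
  mul_mem' := by
    rintro a b ⟨ha, ha'⟩ ⟨hb, hb'⟩
    refine ⟨fun t ht => ?_, fun x hx => ?_⟩
    · show a.1 (b.1 t) = t
      rw [hb t ht, ha t ht]
    · show a.1 (b.1 x) - x ∈ T
      have h1 : a.1 (b.1 x) - x = (b.1 x - x) + (a.1 x - x) := by
        have h2 := ha _ (hb' x hx)
        rw [Og_sub (Om_le_Og _ a.2)] at h2
        rw [← h2]; abel
      rw [h1]
      exact T.add_mem (hb' x hx) (ha' x hx)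
  one_mem' := ⟨fun t _ => rfl, fun x _ => by
    show x - x ∈ T
    rw [sub_self]; exact T.zero_mem⟩
  inv_mem' := by
    rintro a ⟨ha, ha'⟩
    have h1 : ∀ t ∈ T, a.1⁻¹ t = t := by
      intro t ht
      conv_lhs => rw [← ha t ht]
      rw [pinv_apply]
    refine ⟨h1, fun x hx => ?_⟩
    have h2 : a.1⁻¹ x ∈ perp (hyp Q) T := by
      intro t ht
      rw [← h1 t ht, polar_Og (inv_mem (Om_le_Og _ a.2)), hx t ht]
    have h3 := ha' _ h2
    rw [papply_inv] at h3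
    show a.1⁻¹ x - x ∈ T
    rw [← neg_sub]
    exact T.neg_mem h3

theorem mem_KT {T : Submodule F (F × F × V)} {g : G (hyp Q)} :
    g ∈ KT Q T ↔ (∀ t ∈ T, g.1 t = t) ∧ ∀ x ∈ perp (hyp Q) T, g.1 x - x ∈ T := Iff.rfl

theorem isPGroup_KT {p : ℕ} [Fact p.Prime] [CharP F p] (T : Submodule F (F × F × V)) :
    IsPGroup p (KT Q T) := by
  rintro ⟨g, hg, hg'⟩
  refine ⟨2, Subtype.ext (Subtype.ext ?_)⟩
  show g.1 ^ (p ^ 2) = 1
  have hgO := Om_le_Og _ g.2
  apply pow_eq_one_of_unip hgO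
  intro x
  apply hg
  apply hg'
  intro t ht
  rw [polar_sub_left, sub_eq_zero]
  conv_lhs => rw [← hg t ht]
  exact polar_Og hgO x t

/-- `T` totally singular is contained in its perp. -/
theorem le_perp_of_singular {T : Submodule F V} {Q : QuadraticForm F V} (hT : ∀ x ∈ T, Q x = 0) :
    T ≤ perp Q T := by
  intro x hx t ht
  unfold polar
  rw [hT _ (T.add_mem hx ht), hT _ hx, hT _ ht]; simp

/-- elements `g` preserving `T` normalise `KT`. -/
theorem KT_conj {T : Submodule F (F × F × V)} {g n : G (hyp Q)}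
    (hg : ∀ t ∈ T, g.1 t ∈ T) (hg' : ∀ t ∈ T, g.1⁻¹ t ∈ T) (hn : n ∈ KT Q T) :
    g * n * g⁻¹ ∈ KT Q T := by
  have hgO := Om_le_Og _ g.2
  obtain ⟨h1, h2⟩ := hn
  refine ⟨fun t ht => ?_, fun x hx => ?_⟩
  · show g.1 (n.1 (g.1⁻¹ t)) = t
    rw [h1 _ (hg' t ht), papply_inv]
  · show g.1 (n.1 (g.1⁻¹ x)) - x ∈ T
    have h3 : g.1⁻¹ x ∈ perp (hyp Q) T := by
      intro t ht
      have := polar_Og hgO (g.1⁻¹ x) t
      rw [papply_inv] at this
      rw [← this, hx _ (hg t ht)]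
    have h4 := hg _ (h2 _ h3)
    rw [Og_sub hgO, papply_inv] at h4
    exact h4

theorem rpG_mem_KT {T : Submodule F (F × F × V)} (hT : ∀ x ∈ T, hyp Q x = 0)
    (he : (e1 : F × F × V) ∈ T) {v : V} (hv : ((0, 0, v) : F × F × V) ∈ perp (hyp Q) T) :
    rpG Q v ∈ KT Q T := by
  have hTp := le_perp_of_singular hT
  have hsnd : ∀ x ∈ perp (hyp Q) T, x.2.1 = 0 := fun x hx => snd_of_perp (hx _ he)
  refine ⟨fun t ht => ?_, fun x hx => ?_⟩
  · show rp Q v t = t
    have h1 := hsnd t (hTp ht)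
    have h2 := hv t ht
    obtain ⟨a, b, w⟩ := t
    simp only at h1
    subst h1
    simp only [polar_hyp_mk, zero_mul, zero_add] at h2
    rw [rp_mk, polar_comm, h2]
    simp
  · show rp Q v x - x ∈ T
    have h1 := hsnd x hx
    obtain ⟨a, b, w⟩ := x
    simp only at h1
    subst h1
    rw [rp_mk]
    have : ((a - polar Q w v - Q v * 0, 0, w + (0 : F) • v) : F × F × V) - (a, 0, w) =
        (-polar Q w v) • e1 := by
      simp [e1]
      rfl
    rw [this]
    exact T.smul_mem _ he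

theorem ext0_siegel_mem_KT {T : Submodule F (F × F × V)} (hT : ∀ x ∈ T, hyp Q x = 0)
    (he : (e1 : F × F × V) ∈ T) {t0 v : V} (ht0 : ((0, 0, t0) : F × F × V) ∈ T)
    (hv : ((0, 0, v) : F × F × V) ∈ perp (hyp Q) T) (h1 : Q t0 = 0) (h2 : polar Q v t0 = 0) :
    (⟨ext0 (siegel Q t0 v h1 h2), ext0_mem_Om Q (siegel_mem_Om h1 h2)⟩ : G (hyp Q)) ∈ KT Q T := by
  have hTp := le_perp_of_singular hT
  have hsnd : ∀ x ∈ perp (hyp Q) T, x.2.1 = 0 := fun x hx => snd_of_perp (hx _ he)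
  refine ⟨fun t ht => ?_, fun x hx => ?_⟩
  · show ext0 (siegel Q t0 v h1 h2) t = t
    have h3 := hv t ht
    have h4 := hTp ht _ ht0
    obtain ⟨a, b, w⟩ := t
    simp only [polar_hyp_mk, zero_mul, zero_add, mul_zero] at h3 h4
    rw [ext0_mk, siegel_apply, polar_comm Q w v, h3, h4]
    simp
  · show ext0 (siegel Q t0 v h1 h2) x - x ∈ T
    have h4 := hx _ ht0
    obtain ⟨a, b, w⟩ := x
    simp only [polar_hyp_mk, zero_mul, zero_add, mul_zero] at h4
    rw [ext0_mk, siegel_apply, h4]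
    have : ((a, b, w + (0 : F) • v - polar Q w v • t0 - (Q v * 0) • t0) : F × F × V) - (a, b, w) =
        (-polar Q w v) • (0, 0, t0) := by
      simp
    rw [this]
    exact T.smul_mem _ ht0

end kt

/-- The dichotomy. -/
theorem dichotomy {Q₁ : QuadraticForm F V} (hQ : Nice Q₁) {p : ℕ} [Fact p.Prime]
    [CharP F p] [Finite F] [Finite V] (S : Sylow p (G (hyp (hyp Q₁))))
    (hS : ∀ s ∈ S, s.1 e1 = e1) (α : PG (hyp (hyp Q₁)) ≃* PG (hyp (hyp Q₁)))
    (hα : ∀ s ∈ S, ∃ y ∈ Peb (hyp Q₁), α y = pr _ s) :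
    (∀ y ∈ Peb (hyp Q₁), α y ∈ Peb (hyp Q₁)) ∨
    ∃ T : Submodule F (F × F × (F × F × V)), e1 ∈ T ∧ (∃ t ∈ T, ∀ c : F, t ≠ c • e1) ∧
      (∀ x ∈ T, hyp (hyp Q₁) x = 0) ∧
      (∀ x ∈ perp (hyp (hyp Q₁)) T, ∀ y ∈ perp (hyp (hyp Q₁)) T,
        polar (hyp (hyp Q₁)) x y = 0) ∧
      (∀ g : G (hyp (hyp Q₁)), (∃ y ∈ Peb (hyp Q₁), α y = pr _ g) → ∀ t ∈ T, g.1 t ∈ T) ∧
      (∀ g ∈ KT (hyp Q₁) T, ∃ y ∈ Reb (hyp Q₁), α y = pr _ g) := by
  have hQ0 : Nice (hyp Q₁) := nice_hyp hQ.nondeg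
  have hQn : Nice (hyp (hyp Q₁)) := nice_hyp hQ0.nondeg
  have hsurj : Function.Surjective (pr (hyp (hyp Q₁))) := QuotientGroup.mk'_surjective _
  let Sb : Sylow p (PG (hyp (hyp Q₁))) := S.mapSurjective hsurj
  have hSb : ∀ y, y ∈ Sb ↔ ∃ s ∈ S, pr _ s = y := by
    intro y
    show y ∈ (Sb : Subgroup _) ↔ _
    rw [Sylow.coe_mapSurjective]
    exact Subgroup.mem_map
  -- the images
  let H : Subgroup (PG (hyp (hyp Q₁))) := (Peb (hyp Q₁)).map α.toMonoidHom
  let R' : Subgroup (PG (hyp (hyp Q₁))) := (Reb (hyp Q₁)).map α.toMonoidHom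
  have hH : ∀ y, y ∈ H ↔ ∃ z ∈ Peb (hyp Q₁), α z = y := fun y => Subgroup.mem_map
  have hR' : ∀ y, y ∈ R' ↔ ∃ z ∈ Reb (hyp Q₁), α z = y := fun y => Subgroup.mem_map
  have hSbH : (Sb : Subgroup (PG (hyp (hyp Q₁)))) ≤ H := by
    intro y hy
    obtain ⟨s, hs, rfl⟩ := (hSb y).1 hy
    exact (hH _).2 (hα s hs)
  have hR'n : ∀ h ∈ H, ∀ n ∈ R', h * n * h⁻¹ ∈ R' := by
    intro h hh n hn
    obtain ⟨y, hy, rfl⟩ := (hH _).1 hh
    obtain ⟨z, hz, rfl⟩ := (hR' _).1 hn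
    refine (hR' _).2 ⟨y * z * y⁻¹, Peb_conj_Reb hy hz, ?_⟩
    rw [map_mul, map_mul, map_inv]
  have hR'p : IsPGroup p R' := ((Re_isPGroup (Q := hyp Q₁) p).map (pr (hyp (hyp Q₁)))).map α.toMonoidHom
  have hR'S : R' ≤ Sb := le_sylow_of_normalised Sb R' hR'p (fun s hs n hn => hR'n s (hSbH hs) n hn)
  -- W
  let Wset : Set (F × F × (F × F × V)) :=
    {x | (hyp (hyp Q₁)) x = 0 ∧ ∀ g : G (hyp (hyp Q₁)), pr _ g ∈ R' → ∃ c : F, g.1 x = c • x}
  let W : Submodule F (F × F × (F × F × V)) := Submodule.span F Wset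
  have heW : (e1 : F × F × (F × F × V)) ∈ W := by
    apply Submodule.subset_span
    refine ⟨hyp_e1 _, fun g hg => ?_⟩
    obtain ⟨s, hs, hsg⟩ := (hSb _).1 (hR'S hg)
    obtain ⟨ε, hε, h1⟩ := pr_eq_pr hQ0 hsg.symm
    exact ⟨ε, by rw [h1, hS s hs]⟩
  have hWinv : ∀ h : G (hyp (hyp Q₁)), pr _ h ∈ H → ∀ x ∈ W, h.1 x ∈ W := by
    intro h hh x hx
    have hhO := Om_le_Og _ h.2
    induction hx using Submodule.span_induction with
    | mem x hx =>
      apply Submodule.subset_span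
      refine ⟨by rw [Og_map hhO]; exact hx.1, fun g hg => ?_⟩
      have h1 : pr (hyp (hyp Q₁)) (h⁻¹ * g * h) ∈ R' := by
        have h2 := hR'n _ (inv_mem hh) _ hg
        rw [map_mul, map_mul, map_inv]
        rwa [inv_inv] at h2
      obtain ⟨c, hc⟩ := hx.2 _ h1
      refine ⟨c, ?_⟩
      have h3 : h.1⁻¹ (g.1 (h.1 x)) = c • x := hc
      rw [← Og_smul hhO, ← h3, papply_inv]
    | zero => rw [Og_zero hhO]; exact W.zero_mem
    | add x y _ _ hx hy => rw [Og_add hhO]; exact W.add_mem hx hy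
    | smul c x _ hx => rw [Og_smul hhO]; exact W.smul_mem _ hx
  -- W is proper
  have hWtop : W ≠ ⊤ := by
    intro htop
    obtain ⟨w, hw0, hw⟩ := hQ0.exists_singular_ne_zero
    obtain ⟨g, hg⟩ := hsurj (α (pr _ (rpG (hyp Q₁) w)))
    have hgR' : pr (hyp (hyp Q₁)) g ∈ R' := by
      rw [hg]; exact (hR' _).2 ⟨_, ⟨_, ⟨w, rfl⟩, rfl⟩, rfl⟩
    have hgO := Om_le_Og _ g.2
    have hgp : pr (hyp (hyp Q₁)) (g ^ p) = pr (hyp (hyp Q₁)) 1 := by
      rw [map_pow, hg, ← map_pow, ← map_pow, rp_nsmul]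
      have : (p : ℕ) • w = 0 := by
        rw [← Nat.cast_smul_eq_nsmul F, CharP.cast_eq_zero, zero_smul]
      rw [this, map_one]
      have h1 : rpG (hyp Q₁) 0 = 1 := Subtype.ext (rp_zero _)
      rw [h1, map_one, map_one]
    obtain ⟨ε, hε, h1⟩ := pr_eq_pr hQ0 hgp
    have hεp : ε ^ p = ε := by
      have h2 : (ε - 1) * (ε + 1) = 0 := by linear_combination hε
      rcases mul_eq_zero.1 h2 with h | h
      · rw [sub_eq_zero.1 h, one_pow]
      · rw [eq_neg_of_add_eq_zero_left h, neg_one_pow_char]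
    have h2 : ∀ x ∈ Wset, g.1 x = ε • x := by
      intro x hx
      obtain ⟨c, hc⟩ := hx.2 g hgR'
      by_cases hx0 : x = 0
      · subst hx0; rw [Og_zero hgO, smul_zero]
      have h3 : ∀ n : ℕ, (g.1 ^ n) x = c ^ n • x := by
        intro n
        induction n with
        | zero => rw [pow_zero, pow_zero, one_smul]; rfl
        | succ n ih =>
          rw [pow_succ', Equiv.Perm.mul_apply, ih, Og_smul hgO, hc, smul_smul, pow_succ]
      have h4 : (g.1 ^ p) x = ε • x := h1 x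
      rw [h3] at h4
      have h5 : c ^ p = ε := smul_left_injective F hx0 h4
      have h6 : (c - ε) ^ p = 0 := by
        rw [sub_pow_char, h5, hεp, sub_self]
      have h7 : c = ε := by
        have := pow_eq_zero_iff (Fact.out : p.Prime).ne_zero |>.1 h6
        linear_combination this
      rw [hc, h7]
    have h3 : ∀ x, g.1 x = ε • x := by
      intro x
      have hx : x ∈ W := by rw [htop]; trivial
      induction hx using Submodule.span_induction with
      | mem x hx => exact h2 x hx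
      | zero => rw [Og_zero hgO, smul_zero]
      | add x y _ _ hx hy => rw [Og_add hgO, hx, hy, smul_add]
      | smul c x _ hx => rw [Og_smul hgO, hx, smul_comm]
    have h4 : pr (hyp (hyp Q₁)) g = pr (hyp (hyp Q₁)) 1 := pr_eq_pr_of (ε := ε) h3
    rw [h4, map_one] at hg
    have h5 : pr (hyp (hyp Q₁)) (rpG (hyp Q₁) w) = pr (hyp (hyp Q₁)) (rpG (hyp Q₁) 0) := by
      apply α.injective
      rw [← hg]
      have h1 : rpG (hyp Q₁) 0 = 1 := Subtype.ext (rp_zero _)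
      rw [h1, map_one, map_one]
    exact hw0 (rpG_inj hQ0 h5)
  -- a fixed vector in the perp of W
  have : FiniteDimensional F (F × F × (F × F × V)) := inferInstance
  obtain ⟨y0, hy0, hy00⟩ := exists_perp_ne_zero hQn.nondeg hWtop
  have hperp_inv : ∀ h : G (hyp (hyp Q₁)), pr _ h ∈ H → ∀ x ∈ perp (hyp (hyp Q₁)) W, h.1 x ∈ perp (hyp (hyp Q₁)) W := by
    intro h hh x hx t ht
    have h1 := hWinv h⁻¹ (by rw [map_inv]; exact inv_mem hh) t ht
    have h2 := polar_Og (Om_le_Og _ h.2) x (h.1⁻¹ t)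
    rw [papply_inv] at h2
    rw [h2]
    exact hx _ h1
  have hSH : ∀ s ∈ S, pr (hyp (hyp Q₁)) s ∈ H := fun s hs => hSbH ((hSb _).2 ⟨s, hs, rfl⟩)
  let f' : (S : Subgroup (G (hyp (hyp Q₁)))) →* Function.End (perp (hyp (hyp Q₁)) W) :=
    { toFun := fun s x => ⟨s.1.1 x.1, hperp_inv s.1 (hSH s.1 s.2) x.1 x.2⟩
      map_one' := by funext x; rfl
      map_mul' := fun s t => by funext x; rfl }
  have hnt : Nontrivial (perp (hyp (hyp Q₁)) W) := ⟨⟨y0, hy0⟩, 0, fun h => hy00 (congrArg Subtype.val h)⟩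
  obtain ⟨⟨y, hyW⟩, hy0', hyfix⟩ := exists_fixed S.2 f' (prime_dvd_card (F := F) p) 0
    (fun s => Subtype.ext (Og_zero (Om_le_Og _ s.1.2)))
  have hy0 : y ≠ 0 := fun h => hy0' (Subtype.ext h)
  have hyfix' : ∀ s ∈ S, s.1 y = y := fun s hs => congrArg Subtype.val (hyfix ⟨s, hs⟩)
  have hRS := Re_le_sylow S hS
  obtain ⟨a, ha⟩ := fixed_rp hQ0 y (fun w => hyfix' _ (hRS ⟨w, rfl⟩))
  have ha0 : a ≠ 0 := by
    rintro rfl
    exact hy0 ha
  have heWp : (e1 : F × F × (F × F × V)) ∈ perp (hyp (hyp Q₁)) W := by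
    have h1 : (e1 : F × F × (F × F × V)) = a⁻¹ • y := by
      rw [ha]
      simp [e1, ha0]
    rw [h1]
    exact (perp (hyp (hyp Q₁)) W).smul_mem _ hyW
  -- T
  let T : Submodule F (F × F × (F × F × V)) :=
    { carrier := {x | x ∈ W ∧ x ∈ perp (hyp (hyp Q₁)) W ∧ (hyp (hyp Q₁)) x = 0}
      add_mem' := by
        rintro x y ⟨hx1, hx2, hx3⟩ ⟨hy1, hy2, hy3⟩
        refine ⟨W.add_mem hx1 hy1, (perp (hyp (hyp Q₁)) W).add_mem hx2 hy2, ?_⟩
        rw [QuadraticMap.map_add (⇑(hyp (hyp Q₁))), hx3, hy3, hx2 y hy1]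
        simp
      zero_mem' := ⟨W.zero_mem, (perp (hyp (hyp Q₁)) W).zero_mem, map_zero _⟩
      smul_mem' := by
        rintro c x ⟨hx1, hx2, hx3⟩
        refine ⟨W.smul_mem _ hx1, (perp (hyp (hyp Q₁)) W).smul_mem _ hx2, ?_⟩
        rw [QuadraticMap.map_smul, hx3, smul_zero] }
  have heT : (e1 : F × F × (F × F × V)) ∈ T := ⟨heW, heWp, hyp_e1 _⟩
  have hTs : ∀ x ∈ T, (hyp (hyp Q₁)) x = 0 := fun x hx => hx.2.2
  have hTp := le_perp_of_singular hTs
  have hTinv : ∀ g : G (hyp (hyp Q₁)), pr _ g ∈ H → ∀ t ∈ T, g.1 t ∈ T := by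
    rintro g hg t ⟨h1, h2, h3⟩
    exact ⟨hWinv g hg t h1, hperp_inv g hg t h2, by rw [Og_map (Om_le_Og _ g.2), h3]⟩
  by_cases hdim : ∃ t ∈ T, ∀ c : F, t ≠ c • e1
  · right
    -- KT is in R'
    have hKS : (KT (hyp Q₁) T).map (pr (hyp (hyp Q₁))) ≤ Sb := by
      apply le_sylow_of_normalised Sb _ ((isPGroup_KT T).map (pr (hyp (hyp Q₁))))
      intro s hs n hn
      obtain ⟨s, hs', rfl⟩ := (hSb s).1 hs
      obtain ⟨n, hn, rfl⟩ := hn
      refine ⟨s * n * s⁻¹, KT_conj (hTinv s (hSH s hs')) (hTinv s⁻¹ ?_) hn, by simp⟩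
      rw [map_inv]; exact inv_mem (hSH s hs')
    have hKH : (KT (hyp Q₁) T).map (pr (hyp (hyp Q₁))) ≤ H := hKS.trans hSbH
    have hN : (((KT (hyp Q₁) T).map (pr (hyp (hyp Q₁)))).map α.symm.toMonoidHom) ≤ Reb (hyp Q₁) := by
      apply normal_p_le hQ (p := p) _ (((isPGroup_KT T).map (pr (hyp (hyp Q₁)))).map α.symm.toMonoidHom)
      rintro g hg n ⟨_, ⟨k, hk, rfl⟩, rfl⟩
      obtain ⟨g', hg'⟩ := hsurj (α g)
      have hg'H : pr (hyp (hyp Q₁)) g' ∈ H := by rw [hg']; exact (hH _).2 ⟨g, hg, rfl⟩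
      refine ⟨pr (hyp (hyp Q₁)) (g' * k * g'⁻¹), ⟨g' * k * g'⁻¹, KT_conj (hTinv g' hg'H) (hTinv g'⁻¹ ?_) hk,
        rfl⟩, ?_⟩
      · rw [map_inv]; exact inv_mem hg'H
      · show α.symm (pr (hyp (hyp Q₁)) (g' * k * g'⁻¹)) = g * α.symm (pr (hyp (hyp Q₁)) k) * g⁻¹
        rw [map_mul, map_mul, map_inv, map_mul, map_mul, map_inv, hg', MulEquiv.symm_apply_apply]
    have hK : ∀ g ∈ KT (hyp Q₁) T, ∃ y ∈ Reb (hyp Q₁), α y = pr (hyp (hyp Q₁)) g := by
      intro g hg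
      refine ⟨α.symm (pr (hyp (hyp Q₁)) g), hN ⟨pr (hyp (hyp Q₁)) g, ⟨g, hg, rfl⟩, rfl⟩, ?_⟩
      rw [MulEquiv.apply_symm_apply]
    refine ⟨T, heT, hdim, hTs, ?_, fun g hg => hTinv g ((hH _).2 hg), hK⟩
    -- commutation
    obtain ⟨t, htT, htc⟩ := hdim
    have ht2 : t.2.1 = 0 := snd_of_perp (hTp htT _ heT)
    obtain ⟨ta, tb, t0⟩ := t
    simp only at ht2
    subst ht2
    have ht00 : t0 ≠ 0 := by
      rintro rfl
      exact htc ta (by simp [e1])
    have ht0T : ((0, 0, t0) : F × F × (F × F × V)) ∈ T := by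
      have h1 : ((0, 0, t0) : F × F × (F × F × V)) = (ta, 0, t0) - ta • e1 := by simp [e1]
      rw [h1]
      exact T.sub_mem htT (T.smul_mem _ heT)
    have ht0s : hyp Q₁ t0 = 0 := by
      have := hTs _ ht0T
      rw [hyp_mk] at this
      simpa using this
    have hperp0 : ∀ x ∈ perp (hyp (hyp Q₁)) T, ((0, 0, x.2.2) : F × F × (F × F × V)) ∈ perp (hyp (hyp Q₁)) T ∧ x.2.1 = 0 := by
      intro x hx
      have h1 : x.2.1 = 0 := snd_of_perp (hx _ heT)
      refine ⟨?_, h1⟩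
      obtain ⟨a, b, v⟩ := x
      simp only at h1
      subst h1
      have h1 : ((0, 0, v) : F × F × (F × F × V)) = (a, 0, v) - a • e1 := by simp [e1]
      show ((0, 0, v) : F × F × (F × F × V)) ∈ perp (hyp (hyp Q₁)) T
      rw [h1]
      exact (perp (hyp (hyp Q₁)) T).sub_mem hx ((perp (hyp (hyp Q₁)) T).smul_mem _ (hTp heT))
    intro x hx y hy
    obtain ⟨hx1, hx2⟩ := hperp0 x hx
    obtain ⟨hy1, hy2⟩ := hperp0 y hy
    obtain ⟨xa, xb, v⟩ := x
    obtain ⟨ya, yb, v'⟩ := y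
    simp only at hx1 hx2 hy1 hy2
    subst hx2
    subst hy2
    have hv't : polar (hyp Q₁) v' t0 = 0 := by
      have := hy1 _ ht0T
      rw [polar_hyp_mk] at this
      simpa using this
    have hvt : polar (hyp Q₁) v t0 = 0 := by
      have := hx1 _ ht0T
      rw [polar_hyp_mk] at this
      simpa using this
    let δ : G (hyp (hyp Q₁)) := ⟨ext0 (siegel (hyp Q₁) t0 v' ht0s hv't),
      ext0_mem_Om _ (siegel_mem_Om ht0s hv't)⟩
    have hδ : δ ∈ KT (hyp Q₁) T := ext0_siegel_mem_KT hTs heT ht0T hy1 ht0s hv't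
    have hr : rpG (hyp Q₁) v ∈ KT (hyp Q₁) T := rpG_mem_KT hTs heT hx1
    obtain ⟨y1, hy1', hy1''⟩ := hK _ hδ
    obtain ⟨y2, hy2', hy2''⟩ := hK _ hr
    have hcomm : y1 * y2 = y2 * y1 := by
      obtain ⟨w1, rfl⟩ := mem_Reb.1 hy1'
      obtain ⟨w2, rfl⟩ := mem_Reb.1 hy2'
      rw [← map_mul, ← map_mul, ← rpG_add, ← rpG_add, add_comm]
    have h1 : pr (hyp (hyp Q₁)) (δ * rpG (hyp Q₁) v * δ⁻¹) = pr (hyp (hyp Q₁)) (rpG (hyp Q₁) v) := by
      rw [map_mul, map_mul, map_inv, ← hy1'', ← hy2'', ← map_mul, hcomm, map_mul,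
        mul_inv_cancel_right]
    have h2 : δ * rpG (hyp Q₁) v * δ⁻¹ = rpG (hyp Q₁) (siegel (hyp Q₁) t0 v' ht0s hv't v) := by
      apply Subtype.ext
      exact ext0_conj_rp (hyp Q₁) (siegel_mem_Og ht0s hv't) v
    rw [h2] at h1
    have h3 := rpG_inj hQ0 h1
    rw [siegel_apply, hvt] at h3
    have h4 : polar (hyp Q₁) v v' • t0 = 0 := by
      have h5 : v + (0 : F) • v' - polar (hyp Q₁) v v' • t0 - (hyp Q₁ v' * 0) • t0 =
        v - polar (hyp Q₁) v v' • t0 := by simp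
      rw [h5] at h3
      exact sub_eq_self.1 h3
    have h5 : polar (hyp Q₁) v v' = 0 := (smul_eq_zero.1 h4).resolve_right ht00
    rw [polar_hyp_mk, h5]
    ring
  · left
    push Not at hdim
    intro y hy
    obtain ⟨g, hg⟩ := hsurj (α y)
    rw [← hg]
    have hgH : pr (hyp (hyp Q₁)) g ∈ H := by rw [hg]; exact (hH _).2 ⟨y, hy, rfl⟩
    obtain ⟨c, hc⟩ := hdim _ (hTinv g hgH _ heT)
    exact ⟨g, ⟨c, hc⟩, rfl⟩

end Cfsg.Agent.OrthAut.Key
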