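/-
Reconstruction: an automorphism of the projective group normalising both root groups `R⁺`, `R⁻`
is induced by a semisimilarity.
-/
import Cfsg.Agent.OrthAut.Proj

set_option autoImplicit false
set_option linter.unusedSectionVars false
set_option linter.unusedSimpArgs false
set_option linter.unusedVariables false

namespace Cfsg.Agent.OrthAut.Recon

open QuadraticMap Cfsg.Agent.OrthAut.Basic Cfsg.Agent.OrthAut.Hyp Cfsg.Agent.OrthAut.Trans
  Cfsg.Agent.OrthAut.Proj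

variable {F V : Type*} [Field F] [AddCommGroup V] [Module F V]

section comm

variable {Q : QuadraticForm F V}

/-- `ρ⁺_v` and `ρ⁻_w` commute projectively only if `v`, `w` are singular and proportional -/
theorem comm_imp (hQ : Nice Q) {v w : V} (hv : v ≠ 0) (hw : w ≠ 0)
    (h : pr (hyp Q) (rpG Q v) * pr (hyp Q) (rmG Q w) = pr (hyp Q) (rmG Q w) * pr (hyp Q) (rpG Q v)) :
    Q v = 0 ∧ Q w = 0 ∧ ∃ c : F, w = c • v := by
  rw [← map_mul, ← map_mul] at h
  obtain ⟨ε, hε, h1⟩ := pr_eq_pr hQ h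
  have h1' : ∀ x, rp Q v (rm Q w x) = ε • rm Q w (rp Q v x) := h1
  have he := h1' e1
  have hf := h1' f1
  simp only [e1, f1, rp_mk, rm_mk, polar_zero_left, polar_add_left, polar_smul_left, mul_zero,
    mul_one, smul_zero, zero_smul, one_smul, add_zero, zero_add, sub_zero, zero_sub, Prod.smul_mk,
    Prod.mk.injEq, smul_eq_mul, mul_zero] at he hf
  obtain ⟨he1, he2, he3⟩ := he
  obtain ⟨hf1, hf2, hf3⟩ := hf
  have hQw : Q w = 0 := by
    by_contra hne
    have hε1 : ε = 1 := by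
      have : (ε - 1) * Q w = 0 := by linear_combination he2
      rcases mul_eq_zero.1 this with h | h
      · linear_combination h
      · exact absurd h hne
    subst hε1
    rw [one_smul] at he3
    have : Q w • v = 0 := by
      have h5 : w + -Q w • v = w + 0 := by rw [add_zero]; exact he3
      have h6 := add_left_cancel h5
      rw [neg_smul, neg_eq_zero] at h6
      exact h6
    rcases smul_eq_zero.1 this with h | h
    · exact hne h
    · exact hv h
  have hε1 : ε = 1 := by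
    rw [hQw, neg_zero, zero_smul, add_zero] at he3
    have : (ε - 1) • w = 0 := by rw [sub_smul, one_smul, ← he3, sub_self]
    rcases smul_eq_zero.1 this with h | h
    · linear_combination h
    · exact absurd h hw
  subst hε1
  rw [hQw] at he1
  have hvw : polar Q w v = 0 := by linear_combination -he1
  have hQv : Q v = 0 := by
    by_contra hne
    rw [one_smul] at hf3
    have : Q v • w = 0 := by
      have h5 : v + 0 = v + -Q v • w := by rw [add_zero]; exact hf3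
      have h6 := add_left_cancel h5
      rw [neg_smul] at h6
      exact neg_eq_zero.1 h6.symm
    rcases smul_eq_zero.1 this with h | h
    · exact hne h
    · exact hw h
  refine ⟨hQv, hQw, ?_⟩
  obtain ⟨x, hx, hxv⟩ := hQ.exists_singular_polar_eq hv 1
  have h3 := h1' (0, 0, x)
  simp only [rp_mk, rm_mk, polar_zero_left, polar_add_left, polar_smul_left, mul_zero,
    mul_one, smul_zero, zero_smul, one_smul, add_zero, zero_add, sub_zero, zero_sub, Prod.smul_mk,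
    Prod.mk.injEq, smul_eq_mul, mul_zero] at h3
  obtain ⟨_, _, h4⟩ := h3
  refine ⟨polar Q x w, ?_⟩
  have h5 := add_left_cancel h4
  rw [neg_smul, neg_smul, neg_inj, polar_comm Q x v, hxv, one_smul] at h5
  exact h5.symm

theorem comm_of (v : V) (hv : Q v = 0) (c d : F) :
    pr (hyp Q) (rpG Q (c • v)) * pr (hyp Q) (rmG Q (d • v)) =
      pr (hyp Q) (rmG Q (d • v)) * pr (hyp Q) (rpG Q (c • v)) := by
  have : rpG Q (c • v) * rmG Q (d • v) = rmG Q (d • v) * rpG Q (c • v) := by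
    apply Subtype.ext
    apply Equiv.ext
    rintro ⟨a, b, x⟩
    show rp Q (c • v) (rm Q (d • v) (a, b, x)) = rm Q (d • v) (rp Q (c • v) (a, b, x))
    have hvv := polar_self_of_singular hv
    simp only [rp_mk, rm_mk, polar_add_left, polar_smul_left, polar_smul_right,
      QuadraticMap.map_smul, hv, hvv, smul_eq_mul, mul_zero, zero_mul, sub_zero, add_zero]
    refine Prod.ext ?_ (Prod.ext ?_ ?_)
    · simp only
    · simp only
    · simp only; module
  rw [← map_mul, ← map_mul, this]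

end comm

section recon

variable {Q₁ : QuadraticForm F V}

/-- maps `φ` describing the action on a root group -/
theorem phi_add (hQ : Nice Q₁) (α : PG (hyp Q₁) ≃* PG (hyp Q₁)) {φ : V → V}
    (hφ : ∀ w, α (pr _ (rpG Q₁ w)) = pr _ (rpG Q₁ (φ w))) (x y : V) :
    φ (x + y) = φ x + φ y := by
  apply rpG_inj hQ
  rw [← hφ, rpG_add, rpG_add, map_mul, map_mul, map_mul, hφ, hφ]

theorem psi_add (hQ : Nice Q₁) (α : PG (hyp Q₁) ≃* PG (hyp Q₁)) {ψ : V → V}
    (hψ : ∀ w, α (pr _ (rmG Q₁ w)) = pr _ (rmG Q₁ (ψ w))) (x y : V) :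
    ψ (x + y) = ψ x + ψ y := by
  apply rmG_inj hQ
  rw [← hψ, rmG_add, rmG_add, map_mul, map_mul, map_mul, hψ, hψ]

theorem phi_ne (hQ : Nice Q₁) (α : PG (hyp Q₁) ≃* PG (hyp Q₁)) {φ : V → V}
    (hφ : ∀ w, α (pr _ (rpG Q₁ w)) = pr _ (rpG Q₁ (φ w))) {x : V} (hx : x ≠ 0) : φ x ≠ 0 := by
  intro h0
  apply hx
  have h00 : φ 0 = 0 := by
    have := phi_add hQ α hφ 0 0
    simpa using this
  apply rpG_inj hQ
  apply α.injective
  rw [hφ, hφ, h0, h00]

theorem psi_ne (hQ : Nice Q₁) (α : PG (hyp Q₁) ≃* PG (hyp Q₁)) {ψ : V → V}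
    (hψ : ∀ w, α (pr _ (rmG Q₁ w)) = pr _ (rmG Q₁ (ψ w))) {x : V} (hx : x ≠ 0) : ψ x ≠ 0 := by
  intro h0
  apply hx
  have h00 : ψ 0 = 0 := by
    have := psi_add hQ α hψ 0 0
    simpa using this
  apply rmG_inj hQ
  apply α.injective
  rw [hψ, hψ, h0, h00]

/-- the relation transported by an automorphism normalising both root groups -/
theorem singular_map (hQ : Nice Q₁) (α : PG (hyp Q₁) ≃* PG (hyp Q₁)) {φ ψ : V → V}
    (hφ : ∀ w, α (pr _ (rpG Q₁ w)) = pr _ (rpG Q₁ (φ w)))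
    (hψ : ∀ w, α (pr _ (rmG Q₁ w)) = pr _ (rmG Q₁ (ψ w)))
    {v : V} (hv0 : v ≠ 0) (hv : Q₁ v = 0) {c d : F} (hc : c ≠ 0) (hd : d ≠ 0) :
    Q₁ (φ (c • v)) = 0 ∧ ∃ a : F, ψ (d • v) = a • φ (c • v) := by
  have h := congrArg α (comm_of (Q := Q₁) v hv c d)
  rw [map_mul, map_mul, hφ, hψ] at h
  obtain ⟨h1, _, h2⟩ := comm_imp hQ (phi_ne hQ α hφ (smul_ne_zero hc hv0))
    (psi_ne hQ α hψ (smul_ne_zero hd hv0)) h
  exact ⟨h1, h2⟩

end recon

section main

variable {Q₁ : QuadraticForm F V}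

/-- the commutator relation -/
theorem delta_rel {w : V} (hw : Q₁ w = 0) :
    rp (hyp Q₁) e1 * rm (hyp Q₁) (0, 0, w) =
      ext0 (rp Q₁ w) * rm (hyp Q₁) (0, 0, w) * rp (hyp Q₁) e1 := by
  apply Equiv.ext
  rintro ⟨a, b, x, y, z⟩
  simp only [Equiv.Perm.mul_apply, rp_mk, rm_mk, ext0_mk, e1]
  simp only [hyp_mk, polar_hyp_mk, hw, Prod.smul_mk, Prod.mk_add_mk, smul_eq_mul, mul_zero,
    zero_mul, add_zero, zero_add, sub_zero, mul_one, smul_zero, polar_zero_right, polar_add_left,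
    polar_smul_left, map_zero, polar_self_of_singular hw, rp_mk]
  refine Prod.ext ?_ (Prod.ext ?_ (Prod.ext ?_ (Prod.ext ?_ ?_)))
  · simp only
  · simp only
  · simp only; ring
  · simp only
  · simp only; module

/-- Rigidity of automorphisms fixing `R⁺` elementwise and normalising `R⁻`. -/
theorem eq_one_of_fix (hQ : Nice Q₁) (α : PG (hyp (hyp Q₁)) ≃* PG (hyp (hyp Q₁)))
    (ψ : F × F × V → F × F × V)
    (hφ : ∀ w, α (pr _ (rpG (hyp Q₁) w)) = pr _ (rpG (hyp Q₁) w))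
    (hψ : ∀ w, α (pr _ (rmG (hyp Q₁) w)) = pr _ (rmG (hyp Q₁) (ψ w))) (x : PG (hyp (hyp Q₁))) :
    α x = x := by
  have hQ0 : Nice (hyp Q₁) := nice_hyp hQ.nondeg
  have hφ' : ∀ w, α (pr _ (rpG (hyp Q₁) w)) = pr _ (rpG (hyp Q₁) (id w)) := hφ
  obtain ⟨c, hc⟩ := scalar_of_singular hQ ψ (psi_add hQ0 α hψ) (by
    intro x hx
    by_cases hx0 : x = 0
    · subst hx0
      have := psi_add hQ0 α hψ 0 0
      exact ⟨0, by simpa using this⟩
    · obtain ⟨_, a, ha⟩ := singular_map hQ0 α hφ' hψ hx0 hx (one_ne_zero (α := F)) (one_ne_zero (α := F))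
      exact ⟨a, by simpa using ha⟩)
  obtain ⟨w, hw0, hw⟩ := hQ.exists_singular_ne_zero
  -- the element δ
  have hδmem : ∀ w : V, (ext0 (rp Q₁ w) : Equiv.Perm (F × F × (F × F × V))) ∈ Om (hyp (hyp Q₁)) :=
    fun w => ext0_mem_Om (hyp Q₁) (rp_mem_Om Q₁ w)
  let δ : V → G (hyp (hyp Q₁)) := fun w => ⟨ext0 (rp Q₁ w), hδmem w⟩
  have hrel : ∀ w, Q₁ w = 0 → rpG (hyp Q₁) e1 * rmG (hyp Q₁) (0, 0, w) =
      δ w * rmG (hyp Q₁) (0, 0, w) * rpG (hyp Q₁) e1 := by
    intro w hw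
    apply Subtype.ext
    exact delta_rel hw
  have hαδ : α (pr _ (δ w)) = pr _ (δ (c • w)) := by
    have h1 := congrArg (fun x => α (pr _ x)) (hrel w hw)
    simp only [map_mul, hφ, hψ, hc] at h1
    have h2 := congrArg (fun x => (pr _ x)) (hrel (c • w) (by
      rw [QuadraticMap.map_smul, hw, smul_zero]))
    simp only [map_mul] at h2
    have h3 : (c • ((0 : F), (0 : F), w)) = (0, 0, c • w) := by simp
    rw [h3, h2] at h1
    have h4 := mul_right_cancel h1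
    have h5 := mul_right_cancel h4
    exact h5.symm
  have hconj : ∀ w x, δ w * rpG (hyp Q₁) x * (δ w)⁻¹ = rpG (hyp Q₁) (rp Q₁ w x) := by
    intro w x
    apply Subtype.ext
    exact ext0_conj_rp (hyp Q₁) (rp_mem_Og Q₁ w) x
  have hc1 : c = 1 := by
    have h1 := congrArg (fun x => α (pr _ x)) (hconj w f1)
    simp only [map_mul, map_inv, hφ, hαδ] at h1
    have h2 := congrArg (fun x => (pr _ x)) (hconj (c • w) f1)
    simp only [map_mul, map_inv] at h2
    rw [h2] at h1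
    have h3 := rpG_inj hQ0 h1
    have h4 := congrArg (fun x => x.2.2) h3
    simp only [f1, rp_mk, zero_add, one_smul] at h4
    have h5 : (c - 1) • w = 0 := by rw [sub_smul, one_smul, h4, sub_self]
    rcases smul_eq_zero.1 h5 with h | h
    · linear_combination h
    · exact absurd h hw0
  subst hc1
  refine PG_induction hQ0 (P := fun x => α x = x) hφ ?_ ?_ ?_ (map_one α) x
  · intro w
    rw [hψ, hc, one_smul]
  · intro x y hx hy
    rw [map_mul, hx, hy]
  · intro x hx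
    rw [map_inv, hx]

variable [Finite F]

/-- the semisimilarity built from `φ` -/
def extSim (Q₀ : QuadraticForm F V) (σ : F ≃+* F) (μ : F) (hμ : μ ≠ 0) (φ : Equiv.Perm V) :
    Equiv.Perm (F × F × V) where
  toFun x := (μ * σ x.1, σ x.2.1, φ x.2.2)
  invFun x := (σ.symm (μ⁻¹ * x.1), σ.symm x.2.1, φ.symm x.2.2)
  left_inv x := by
    obtain ⟨a, b, v⟩ := x
    simp [hμ]
  right_inv x := by
    obtain ⟨a, b, v⟩ := x
    simp [hμ]

theorem extSim_mk (Q₀ : QuadraticForm F V) (σ : F ≃+* F) (μ : F) (hμ : μ ≠ 0) (φ : Equiv.Perm V)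
    (a b : F) (v : V) : extSim Q₀ σ μ hμ φ (a, b, v) = (μ * σ a, σ b, φ v) := rfl

theorem extSim_isSemiSim {Q₀ : QuadraticForm F V} {σ : F ≃+* F} {μ : F} {φ : Equiv.Perm V}
    (hφ : IsSemiSim Q₀ σ μ φ) : IsSemiSim (hyp Q₀) σ μ (extSim Q₀ σ μ hφ.ne φ) := by
  refine ⟨hφ.ne, ?_, ?_, ?_⟩
  · rintro ⟨a, b, v⟩ ⟨a', b', v'⟩
    simp only [Prod.mk_add_mk, extSim_mk, map_add, hφ.add]
    rw [mul_add]
  · rintro c ⟨a, b, v⟩
    simp only [Prod.smul_mk, extSim_mk, smul_eq_mul, map_mul, hφ.smul]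
    refine Prod.ext ?_ rfl
    simp only; ring
  · rintro ⟨a, b, v⟩
    simp only [extSim_mk, hyp_mk, hφ.map, map_add, map_mul]
    ring

theorem extSim_conj_rp {Q₀ : QuadraticForm F V} {σ : F ≃+* F} {μ : F} {φ : Equiv.Perm V}
    (hφ : IsSemiSim Q₀ σ μ φ) (w : V) :
    extSim Q₀ σ μ hφ.ne φ * rp Q₀ w * (extSim Q₀ σ μ hφ.ne φ)⁻¹ = rp Q₀ (φ w) := by
  rw [mul_inv_eq_iff_eq_mul]
  apply Equiv.ext
  rintro ⟨a, b, v⟩
  simp only [Equiv.Perm.mul_apply, rp_mk, extSim_mk, hφ.map, polar_semiSim hφ, map_sub, map_mul,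
    hφ.add, hφ.smul]
  refine Prod.ext ?_ rfl
  simp only; ring

theorem extSim_conj_rm {Q₀ : QuadraticForm F V} {σ : F ≃+* F} {μ : F} {φ : Equiv.Perm V}
    (hφ : IsSemiSim Q₀ σ μ φ) (w : V) :
    extSim Q₀ σ μ hφ.ne φ * rm Q₀ w * (extSim Q₀ σ μ hφ.ne φ)⁻¹ = rm Q₀ (μ⁻¹ • φ w) := by
  have hμ := hφ.ne
  rw [mul_inv_eq_iff_eq_mul]
  apply Equiv.ext
  rintro ⟨a, b, v⟩
  simp only [Equiv.Perm.mul_apply, rm_mk, extSim_mk, hφ.map, polar_semiSim hφ, map_sub, map_mul,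
    hφ.add, hφ.smul, polar_smul_right, QuadraticMap.map_smul, smul_eq_mul, smul_smul]
  refine Prod.ext rfl (Prod.ext ?_ ?_)
  · simp only; field_simp
  · simp only
    congr 2
    field_simp

/-- The vector-space structure is recovered. -/
theorem semilinear_of (hQ : Nice Q₁) (α : PG (hyp (hyp Q₁)) ≃* PG (hyp (hyp Q₁)))
    {φ ψ : F × F × V → F × F × V}
    (hφ : ∀ w, α (pr _ (rpG (hyp Q₁) w)) = pr _ (rpG (hyp Q₁) (φ w)))
    (hψ : ∀ w, α (pr _ (rmG (hyp Q₁) w)) = pr _ (rmG (hyp Q₁) (ψ w)))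
    (hφs : Function.Surjective φ) (hψs : Function.Surjective ψ) :
    ∃ (σ : F ≃+* F) (μ : F) (Φ : Equiv.Perm (F × F × V)), (∀ x, Φ x = φ x) ∧
      IsSemiSim (hyp Q₁) σ μ Φ := by
  have hQ0 : Nice (hyp Q₁) := nice_hyp hQ.nondeg
  have hφadd := phi_add hQ0 α hφ
  have hφinj : Function.Injective φ := by
    intro x y hxy
    apply rpG_inj hQ0
    apply α.injective
    rw [hφ, hφ, hxy]
  have hφ0 : φ 0 = 0 := by
    have := hφadd 0 0
    simpa using this
  -- singular vectors correspond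
  have hsing : ∀ x, hyp Q₁ x = 0 → hyp Q₁ (φ x) = 0 := by
    intro x hx
    by_cases hx0 : x = 0
    · subst hx0; rw [hφ0, map_zero]
    · have := (singular_map hQ0 α hφ hψ hx0 hx (one_ne_zero (α := F)) (one_ne_zero (α := F))).1
      rwa [one_smul] at this
  have hsing' : ∀ x, hyp Q₁ (φ x) = 0 → hyp Q₁ x = 0 := by
    intro x hx
    by_cases hx0 : x = 0
    · subst hx0; rw [map_zero]
    · have hφx0 : φ x ≠ 0 := phi_ne hQ0 α hφ hx0
      obtain ⟨y, hy⟩ := hψs (φ x)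
      have hy0 : y ≠ 0 := by
        rintro rfl
        have h0 : ψ 0 = 0 := by
          have := psi_add hQ0 α hψ 0 0
          simpa using this
        exact hφx0 (by rw [← hy, h0])
      have h1 := comm_of (Q := hyp Q₁) (φ x) hx 1 1
      rw [one_smul] at h1
      have h2 : α (pr (hyp (hyp Q₁)) (rpG (hyp Q₁) x) * pr (hyp (hyp Q₁)) (rmG (hyp Q₁) y)) =
          α (pr (hyp (hyp Q₁)) (rmG (hyp Q₁) y) * pr (hyp (hyp Q₁)) (rpG (hyp Q₁) x)) := by
        rw [map_mul, map_mul, hφ, hψ, hy]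
        exact h1
      exact (comm_imp hQ0 hx0 hy0 (α.injective h2)).1
  -- scalar multiples
  have hline : ∀ (c : F) x, hyp Q₁ x = 0 → ∃ d : F, φ (c • x) = d • φ x := by
    intro c x hx
    by_cases hx0 : x = 0
    · subst hx0; exact ⟨0, by rw [smul_zero, hφ0, smul_zero]⟩
    by_cases hc : c = 0
    · subst hc; exact ⟨0, by rw [zero_smul, hφ0, zero_smul]⟩
    obtain ⟨_, a, ha⟩ := singular_map hQ0 α hφ hψ hx0 hx hc (one_ne_zero (α := F))
    obtain ⟨_, b, hb⟩ := singular_map hQ0 α hφ hψ hx0 hx (one_ne_zero (α := F))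
      (one_ne_zero (α := F))
    rw [one_smul] at ha hb
    have ha0 : a ≠ 0 := by
      rintro rfl
      rw [zero_smul] at ha
      exact psi_ne hQ0 α hψ hx0 ha
    refine ⟨a⁻¹ * b, ?_⟩
    rw [mul_smul, ← hb, ha, smul_smul, inv_mul_cancel₀ ha0, one_smul]
  -- σ
  let Φ : Equiv.Perm (F × F × V) := Equiv.ofBijective φ ⟨hφinj, hφs⟩
  have hΦ : ∀ x, Φ x = φ x := fun x => rfl
  have hσ : ∀ c : F, ∃ d : F, ∀ x, φ (c • x) = d • φ x := by
    intro c
    obtain ⟨d, hd⟩ := scalar_of_singular hQ (fun y => φ (c • Φ.symm y)) (by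
      intro x y
      have : Φ.symm (x + y) = Φ.symm x + Φ.symm y := by
        apply Φ.injective
        rw [Equiv.apply_symm_apply, hΦ, hφadd, ← hΦ, ← hΦ, Equiv.apply_symm_apply,
          Equiv.apply_symm_apply]
      show φ (c • Φ.symm (x + y)) = φ (c • Φ.symm x) + φ (c • Φ.symm y)
      rw [this, smul_add, hφadd]) (by
      intro y hy
      have h1 : hyp Q₁ (Φ.symm y) = 0 := by
        apply hsing'
        rw [← hΦ, Equiv.apply_symm_apply]; exact hy
      obtain ⟨d, hd⟩ := hline c _ h1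
      refine ⟨d, ?_⟩
      show φ (c • Φ.symm y) = d • y
      rw [hd, ← hΦ, Equiv.apply_symm_apply])
    refine ⟨d, fun x => ?_⟩
    have := hd (Φ x)
    simp only [Equiv.symm_apply_apply] at this
    rw [this, hΦ]
  choose s hs using hσ
  have he1 : φ e1 ≠ 0 := phi_ne hQ0 α hφ e1_ne
  have hcancel : ∀ {a b : F}, a • φ e1 = b • φ e1 → a = b := fun {a b} h =>
    smul_left_injective F he1 h
  let σ0 : F →+* F :=
    { toFun := s
      map_one' := hcancel (by rw [← hs, one_smul, one_smul])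
      map_mul' := fun a b => hcancel (by rw [← hs, mul_smul, hs, hs, mul_smul])
      map_zero' := hcancel (by rw [← hs, zero_smul, zero_smul, hφ0])
      map_add' := fun a b => hcancel (by rw [← hs, add_smul, hφadd, hs, hs, add_smul]) }
  let σ : F ≃+* F := RingEquiv.ofBijective σ0
    ⟨σ0.injective, Finite.injective_iff_surjective.1 σ0.injective⟩
  have hσs : ∀ c x, φ (c • x) = σ c • φ x := fun c x => hs c x
  -- the pulled back form
  let Q' : QuadraticForm F (F × F × V) :=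
    { toFun := fun x => σ.symm (hyp Q₁ (φ x))
      toFun_smul := fun c x => by
        show σ.symm (hyp Q₁ (φ (c • x))) = _
        rw [hσs, QuadraticMap.map_smul, smul_eq_mul, map_mul, map_mul, RingEquiv.symm_apply_apply,
          smul_eq_mul]
      exists_companion' := ⟨LinearMap.mk₂ F (fun x y => σ.symm (polar (hyp Q₁) (φ x) (φ y)))
        (fun x x' y => by rw [hφadd, polar_add_left, map_add])
        (fun c x y => by rw [hσs, polar_smul_left, smul_eq_mul, map_mul,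
          RingEquiv.symm_apply_apply, smul_eq_mul])
        (fun x y y' => by rw [hφadd, polar_add_right, map_add])
        (fun c x y => by rw [hσs, polar_smul_right, smul_eq_mul, map_mul,
          RingEquiv.symm_apply_apply, smul_eq_mul]), fun x y => by
          simp only [LinearMap.mk₂_apply]
          rw [hφadd, QuadraticMap.map_add (⇑(hyp Q₁)), map_add, map_add]⟩ }
  have hQ' : ∀ x, Q' x = σ.symm (hyp Q₁ (φ x)) := fun x => rfl
  obtain ⟨μ, hμ⟩ := multiple_of_vanish hQ Q' (fun x hx => by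
    rw [hQ', hsing x hx, map_zero])
  have hmap : ∀ x, hyp Q₁ (φ x) = σ μ * σ (hyp Q₁ x) := by
    intro x
    have := hμ x
    rw [hQ'] at this
    rw [← map_mul, ← this, RingEquiv.apply_symm_apply]
  refine ⟨σ, σ μ, Φ, hΦ, ?_, hφadd, hσs, hmap⟩
  intro h0
  obtain ⟨y, hy⟩ := hφs (1, 1, 0)
  have h1 := hmap y
  rw [hy, h0, zero_mul] at h1
  simp at h1

/-- **Reconstruction theorem**. -/
theorem recon (hQ : Nice Q₁) (α : PG (hyp (hyp Q₁)) ≃* PG (hyp (hyp Q₁)))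
    (hp : ∀ w, ∃ w', α (pr _ (rpG (hyp Q₁) w)) = pr _ (rpG (hyp Q₁) w'))
    (hp' : ∀ w', ∃ w, α (pr _ (rpG (hyp Q₁) w)) = pr _ (rpG (hyp Q₁) w'))
    (hm : ∀ w, ∃ w', α (pr _ (rmG (hyp Q₁) w)) = pr _ (rmG (hyp Q₁) w'))
    (hm' : ∀ w', ∃ w, α (pr _ (rmG (hyp Q₁) w)) = pr _ (rmG (hyp Q₁) w')) :
    ∃ g : ↥(GammaO (hyp (hyp Q₁))), ∀ x, Theta (hyp (hyp Q₁)) g x = α x := by
  have hQ0 : Nice (hyp Q₁) := nice_hyp hQ.nondeg
  choose φ hφ using hp
  choose ψ hψ using hm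
  have hφs : Function.Surjective φ := by
    intro y
    obtain ⟨w, hw⟩ := hp' y
    refine ⟨w, rpG_inj hQ0 ?_⟩
    rw [← hφ, hw]
  have hψs : Function.Surjective ψ := by
    intro y
    obtain ⟨w, hw⟩ := hm' y
    refine ⟨w, rmG_inj hQ0 ?_⟩
    rw [← hψ, hw]
  obtain ⟨σ, μ, Φ, hΦ, hsim⟩ := semilinear_of hQ α hφ hψ hφs hψs
  let g : ↥(GammaO (hyp (hyp Q₁))) := ⟨extSim (hyp Q₁) σ μ hsim.ne Φ, σ, μ, extSim_isSemiSim hsim⟩
  have hgp : ∀ w, Theta (hyp (hyp Q₁)) g (pr _ (rpG (hyp Q₁) w)) = pr _ (rpG (hyp Q₁) (φ w)) := by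
    intro w
    rw [Theta_pr]
    congr 1
    apply Subtype.ext
    rw [conjOm_coe]
    show extSim (hyp Q₁) σ μ hsim.ne Φ * rp (hyp Q₁) w * (extSim (hyp Q₁) σ μ hsim.ne Φ)⁻¹ = _
    rw [extSim_conj_rp hsim, hΦ]; rfl
  have hgm : ∀ w, Theta (hyp (hyp Q₁)) g (pr _ (rmG (hyp Q₁) w)) =
      pr _ (rmG (hyp Q₁) (μ⁻¹ • φ w)) := by
    intro w
    rw [Theta_pr]
    congr 1
    apply Subtype.ext
    rw [conjOm_coe]
    show extSim (hyp Q₁) σ μ hsim.ne Φ * rm (hyp Q₁) w * (extSim (hyp Q₁) σ μ hsim.ne Φ)⁻¹ = _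
    rw [extSim_conj_rm hsim, hΦ]; rfl
  refine ⟨g, ?_⟩
  -- α' = Θ(g)⁻¹ α
  let β : PG (hyp (hyp Q₁)) ≃* PG (hyp (hyp Q₁)) := α.trans (Theta (hyp (hyp Q₁)) g).symm
  have hβ : ∀ x, β x = (Theta (hyp (hyp Q₁)) g).symm (α x) := fun x => rfl
  have hβ1 : ∀ w, β (pr _ (rpG (hyp Q₁) w)) = pr _ (rpG (hyp Q₁) w) := by
    intro w
    rw [hβ, hφ, ← hgp, MulEquiv.symm_apply_apply]
  have hsurj : ∀ y, ∃ w, μ⁻¹ • φ w = y := by
    intro y
    obtain ⟨w, hw⟩ := hφs (μ • y)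
    refine ⟨w, ?_⟩
    rw [hw, smul_smul, inv_mul_cancel₀ hsim.ne, one_smul]
  choose χ hχ using hsurj
  have hβ2 : ∀ w, β (pr _ (rmG (hyp Q₁) w)) = pr _ (rmG (hyp Q₁) (χ (ψ w))) := by
    intro w
    rw [hβ, hψ]
    conv_lhs => rw [← hχ (ψ w)]
    rw [← hgm, MulEquiv.symm_apply_apply]
  have hβ3 := eq_one_of_fix hQ β (fun w => χ (ψ w)) hβ1 hβ2
  intro x
  have h1 := hβ3 x
  rw [hβ, MulEquiv.symm_apply_eq] at h1
  exact h1.symm

end main

end Cfsg.Agent.OrthAut.Recon
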