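/-
Every automorphism of the projective group is induced by a semisimilarity.
-/
import Cfsg.Agent.OrthAut.Key
import Cfsg.Agent.OrthAut.Recon

set_option autoImplicit false
set_option linter.unusedSectionVars false
set_option linter.unusedSimpArgs false
set_option linter.unusedVariables false

namespace Cfsg.Agent.OrthAut.Aut

open QuadraticMap Cfsg.Agent.OrthAut.Basic Cfsg.Agent.OrthAut.Hyp Cfsg.Agent.OrthAut.Trans
  Cfsg.Agent.OrthAut.Proj Cfsg.Agent.OrthAut.Fix Cfsg.Agent.OrthAut.Para Cfsg.Agent.OrthAut.Key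
  Cfsg.Agent.OrthAut.Recon

variable {F V : Type*} [Field F] [AddCommGroup V] [Module F V]

section

variable {Q : QuadraticForm F V}

theorem siegel_f1 (w : F × F × V) (hw : polar (hyp Q) w f1 = 0) :
    siegel (hyp Q) f1 w (hyp_f1 Q) hw = rm Q w.2.2 := by
  obtain ⟨a, b, v⟩ := w
  have hb : a = 0 := by simpa [f1] using hw
  subst hb
  apply Equiv.ext
  rintro ⟨a', b', v'⟩
  rw [siegel_apply]
  simp [f1]
  ring

/-- an element mapping `e` to `f` conjugates `R⁺` to `R⁻` -/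
theorem conj_rp_rm {n : Equiv.Perm (F × F × V)} (hn : n ∈ Og (hyp Q)) (hne : n e1 = f1) (w : V) :
    ∃ w', n * rp Q w * n⁻¹ = rm Q w' := by
  have h1 : hyp Q (n e1) = 0 := by rw [Og_map hn, hyp_e1]
  have h2 : polar (hyp Q) ((1 : F)⁻¹ • n (0, 0, w)) (n e1) = 0 := by
    rw [polar_smul_left, polar_Og hn, polar_in_e1, smul_zero]
  have h3 : polar (hyp Q) ((1 : F)⁻¹ • n (0, 0, w)) f1 = 0 := by rw [← hne]; exact h2
  rw [rp_eq_siegel, conj_siegel _ _ hn h1 h2]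
  rw [siegel_congr h1 h2 (hyp_f1 Q) h3 hne rfl, siegel_f1]
  exact ⟨_, rfl⟩

theorem conj_rm_rp {n : Equiv.Perm (F × F × V)} (hn : n ∈ Og (hyp Q)) (hne : n e1 = f1) (w : V) :
    ∃ w', rm Q w = n * rp Q w' * n⁻¹ := by
  have hn' : n⁻¹ ∈ Og (hyp Q) := inv_mem hn
  have hne' : n⁻¹ f1 = e1 := by rw [← hne, pinv_apply]
  have h1 : hyp Q (n⁻¹ f1) = 0 := by rw [hne', hyp_e1]
  have h2 : polar (hyp Q) ((1 : F)⁻¹ • n⁻¹ (0, 0, w)) (n⁻¹ f1) = 0 := by
    rw [polar_smul_left, polar_Og hn', polar_in_f1, smul_zero]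
  have h3 : polar (hyp Q) ((1 : F)⁻¹ • n⁻¹ (0, 0, w)) e1 = 0 := by rw [← hne']; exact h2
  have h4 := conj_siegel (hyp_f1 Q) (polar_in_f1 Q w) hn' h1 h2
  rw [siegel_congr h1 h2 (hyp_e1 Q) h3 hne' rfl, siegel_e1, ← rm_eq_siegel] at h4
  refine ⟨((1 : F)⁻¹ • n⁻¹ (0, 0, w)).2.2, ?_⟩
  rw [← h4]
  group

theorem finite_G [Finite F] [Finite V] : Finite (G Q) := by
  infer_instance

end

/-- An automorphism mapping `Peb` into itself is induced by a semisimilarity. -/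
theorem induced_of_Peb {Q₁ : QuadraticForm F V} (hQ : Nice Q₁) {p : ℕ} [Fact p.Prime]
    [CharP F p] [Finite F] [Finite V] (α : PG (hyp (hyp Q₁)) ≃* PG (hyp (hyp Q₁)))
    (hP : ∀ y ∈ Peb (hyp Q₁), α y ∈ Peb (hyp Q₁)) :
    ∃ g : ↥(GammaO (hyp (hyp Q₁))), ∀ x, Theta (hyp (hyp Q₁)) g x = α x := by
  have hQ0 : Nice (hyp Q₁) := nice_hyp hQ.nondeg
  have hsurj : Function.Surjective (pr (hyp (hyp Q₁))) := QuotientGroup.mk'_surjective _
  -- α Peb = Peb
  have hPeq : (Peb (hyp Q₁)).map α.toMonoidHom = Peb (hyp Q₁) := by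
    apply Subgroup.eq_of_le_of_card_ge
    · rintro _ ⟨y, hy, rfl⟩
      exact hP y hy
    · rw [Subgroup.card_map_of_injective (f := α.toMonoidHom) α.injective]
  -- α Reb ≤ Reb
  have hR : (Reb (hyp Q₁)).map α.toMonoidHom ≤ Reb (hyp Q₁) := by
    apply normal_p_le hQ (p := p) _ (((Re_isPGroup (Q := hyp Q₁) p).map (pr (hyp (hyp Q₁)))).map
      α.toMonoidHom)
    rintro g hg _ ⟨y, hy, rfl⟩
    rw [← hPeq] at hg
    obtain ⟨z, hz, rfl⟩ := hg
    refine ⟨z * y * z⁻¹, Peb_conj_Reb hz hy, ?_⟩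
    simp
  have hp : ∀ w, ∃ w', α (pr _ (rpG (hyp Q₁) w)) = pr _ (rpG (hyp Q₁) w') := by
    intro w
    obtain ⟨w', hw'⟩ := mem_Reb.1 (hR ⟨_, mem_Reb.2 ⟨w, rfl⟩, rfl⟩)
    exact ⟨w', hw'.symm⟩
  -- the opposite group
  obtain ⟨n0, hn0, hn0e⟩ := Om_trans hQ0 e1_ne f1_ne
    (by rw [hyp_e1, hyp_f1] : hyp (hyp Q₁) e1 = hyp (hyp Q₁) f1)
  let n : G (hyp (hyp Q₁)) := ⟨n0, hn0⟩
  obtain ⟨g, hg⟩ := hsurj (α (pr _ n))
  have hgO := Om_le_Og _ g.2
  have hm1 : ∀ w, ∃ w2, α (pr _ (rmG (hyp Q₁) w)) = pr _ (g * rpG (hyp Q₁) w2 * g⁻¹) := by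
    intro w
    obtain ⟨w1, hw1⟩ := conj_rm_rp (Om_le_Og _ hn0) hn0e w
    obtain ⟨w2, hw2⟩ := hp w1
    refine ⟨w2, ?_⟩
    have h1 : rmG (hyp Q₁) w = n * rpG (hyp Q₁) w1 * n⁻¹ := Subtype.ext hw1
    rw [h1, map_mul, map_mul, map_inv, map_mul, map_mul, map_inv, hw2, map_mul, map_mul, map_inv,
      hg]
  set u := g.1 e1 with hu
  have hub : u.2.1 ≠ 0 := by
    intro hub
    let M : Submodule F (F × F × (F × F × V)) := Submodule.span F {e1, u}
    have heM : e1 ∈ M := Submodule.subset_span (by simp)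
    have huM : u ∈ M := Submodule.subset_span (by simp)
    have hMperp : ∀ m ∈ M, m.2.1 = 0 := by
      intro m hm
      induction hm using Submodule.span_induction with
      | mem m hm =>
        rcases hm with rfl | hm
        · rfl
        · rw [Set.mem_singleton_iff] at hm
          rw [hm]; exact hub
      | zero => rfl
      | add x y _ _ hx hy =>
        show x.2.1 + y.2.1 = 0
        rw [hx, hy, add_zero]
      | smul c x _ hx =>
        show c * x.2.1 = 0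
        rw [hx, mul_zero]
    have hspan : ∀ h : G (hyp (hyp Q₁)), h.1 e1 ∈ M → h.1 u ∈ M → ∀ m ∈ M, h.1 m ∈ M := by
      intro h h1 h2 m hm
      have hhO := Om_le_Og _ h.2
      induction hm using Submodule.span_induction with
      | mem m hm =>
        rcases hm with rfl | hm
        · exact h1
        · rw [Set.mem_singleton_iff] at hm
          rw [hm]; exact h2
      | zero => rw [Og_zero hhO]; exact M.zero_mem
      | add x y _ _ hx hy => rw [Og_add hhO]; exact M.add_mem hx hy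
      | smul c x _ hx => rw [Og_smul hhO]; exact M.smul_mem _ hx
    have hrpM : ∀ (w : F × F × V) (x : F × F × (F × F × V)), x.2.1 = 0 →
        ∃ c : F, rp (hyp Q₁) w x = x - c • e1 := by
      intro w x hx
      obtain ⟨a, b, v⟩ := x
      simp only at hx
      subst hx
      refine ⟨polar (hyp Q₁) v w, ?_⟩
      rw [rp_mk]
      simp [e1]
    have key : ∀ y : PG (hyp (hyp Q₁)), ∀ h : G (hyp (hyp Q₁)), pr _ h = α y → ∀ m ∈ M, h.1 m ∈ M := by
      intro y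
      refine PG_induction hQ0 (P := fun y => ∀ h : G (hyp (hyp Q₁)), pr _ h = α y →
        ∀ m ∈ M, h.1 m ∈ M) ?_ ?_ ?_ ?_ ?_ y
      · intro w h hh
        obtain ⟨w', hw'⟩ := hp w
        rw [hw'] at hh
        obtain ⟨ε, hε, h1⟩ := pr_eq_pr hQ0 hh
        apply hspan
        · rw [h1, rpG_e1]; exact M.smul_mem _ heM
        · rw [h1]
          apply M.smul_mem
          obtain ⟨c, hc⟩ := hrpM w' u hub
          show rp (hyp Q₁) w' u ∈ M
          rw [hc]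
          exact M.sub_mem huM (M.smul_mem _ heM)
      · intro w h hh
        obtain ⟨w2, hw2⟩ := hm1 w
        rw [hw2] at hh
        obtain ⟨ε, hε, h1⟩ := pr_eq_pr hQ0 hh
        apply hspan
        · rw [h1]
          apply M.smul_mem
          show g.1 (rp (hyp Q₁) w2 (g.1⁻¹ e1)) ∈ M
          have h2 : (g.1⁻¹ e1).2.1 = 0 := by
            apply snd_of_perp (Q := hyp Q₁)
            have h3 := polar_Og hgO (g.1⁻¹ e1) e1
            rw [papply_inv] at h3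
            rw [← h3, polar_comm]
            have h4 : ∀ y : F × F × (F × F × V), polar (hyp (hyp Q₁)) y e1 = y.2.1 := by
              rintro ⟨a, b, v⟩; simp [e1]
            rw [h4]; exact hub
          obtain ⟨c, hc⟩ := hrpM w2 _ h2
          rw [hc, Og_sub hgO, papply_inv, Og_smul hgO]
          exact M.sub_mem heM (M.smul_mem _ huM)
        · rw [h1]
          apply M.smul_mem
          show g.1 (rp (hyp Q₁) w2 (g.1⁻¹ (g.1 e1))) ∈ M
          rw [pinv_apply]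
          have h2 : rp (hyp Q₁) w2 e1 = e1 := rpG_e1 (Q := hyp Q₁) w2
          rw [h2]; exact huM
      · intro x y hx hy h hh m hm
        obtain ⟨hx', hx''⟩ := hsurj (α x)
        obtain ⟨hy', hy''⟩ := hsurj (α y)
        have h1 : pr _ h = pr (hyp (hyp Q₁)) (hx' * hy') := by
          rw [hh, map_mul, map_mul, hx'', hy'']
        obtain ⟨ε, hε, h2⟩ := pr_eq_pr hQ0 h1
        rw [h2]
        apply M.smul_mem
        exact hx _ hx'' _ (hy _ hy'' _ hm)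
      · intro x hx h hh m hm
        have h1 : pr _ h⁻¹ = α x := by rw [map_inv, hh, map_inv, inv_inv]
        have h2 := hx _ h1
        let F1 : M → M := fun m => ⟨h⁻¹.1 m.1, h2 m.1 m.2⟩
        have hinj : Function.Injective F1 := by
          intro a b hab
          have := congrArg Subtype.val hab
          exact Subtype.ext (h⁻¹.1.injective this)
        obtain ⟨m', hm'⟩ := (Finite.injective_iff_surjective.1 hinj) ⟨m, hm⟩
        have h3 : h.1⁻¹ m'.1 = m := congrArg Subtype.val hm'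
        rw [← h3, papply_inv]
        exact m'.2
      · intro h hh m hm
        have h1 : pr _ h = pr (hyp (hyp Q₁)) 1 := by rw [hh, map_one, map_one]
        obtain ⟨ε, hε, h2⟩ := pr_eq_pr hQ0 h1
        rw [h2]
        exact M.smul_mem _ hm
    have h1 := key (α.symm (pr _ n)) n (by rw [MulEquiv.apply_symm_apply]) e1 heM
    have h2 : n.1 e1 = f1 := hn0e
    rw [h2] at h1
    have h3 := hMperp _ h1
    simp [f1] at h3
  -- adjust
  obtain ⟨k, hk, q, hq, hgq⟩ : ∃ k ∈ Re (hyp Q₁), ∃ q ∈ Pe (hyp Q₁), g = k * n * q := by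
    let w := u.2.1⁻¹ • u.2.2
    refine ⟨rpG (hyp Q₁) w, ⟨w, rfl⟩, (rpG (hyp Q₁) w * n)⁻¹ * g, ?_, by group⟩
    refine ⟨u.2.1, ?_⟩
    show ((rpG (hyp Q₁) w * n).1)⁻¹ (g.1 e1) = _
    rw [Equiv.Perm.inv_eq_iff_eq, Og_smul (Om_le_Og _ (rpG (hyp Q₁) w * n).2)]
    show u = u.2.1 • rp (hyp Q₁) w (n0 e1)
    rw [hn0e]
    have hu0 : hyp (hyp Q₁) u = 0 := by rw [hu, Og_map hgO, hyp_e1]
    obtain ⟨a, b, v⟩ := u
    simp only at hub
    rw [hyp_mk] at hu0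
    have h1 : a = -(b * (hyp Q₁ (b⁻¹ • v))) := by
      rw [QuadraticMap.map_smul, smul_eq_mul]
      field_simp
      linear_combination hu0
    show (a, b, v) = b • rp (hyp Q₁) (b⁻¹ • v) f1
    rw [f1, rp_mk]
    refine Prod.ext ?_ (Prod.ext ?_ ?_)
    · simp only [polar_zero_left, Prod.smul_mk, smul_eq_mul]
      rw [h1]; ring
    · simp
    · simp [hub]
  let β : PG (hyp (hyp Q₁)) ≃* PG (hyp (hyp Q₁)) := α.trans (MulAut.conj (pr _ k)⁻¹)
  have hβ : ∀ x, β x = (pr _ k)⁻¹ * α x * pr _ k := by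
    intro x
    show MulAut.conj (pr _ k)⁻¹ (α x) = _
    rw [MulAut.conj_apply, inv_inv]
  have hβp : ∀ w, ∃ w', β (pr _ (rpG (hyp Q₁) w)) = pr _ (rpG (hyp Q₁) w') := by
    intro w
    obtain ⟨w', hw'⟩ := hp w
    refine ⟨w', ?_⟩
    obtain ⟨v, rfl⟩ := hk
    rw [hβ, hw', ← map_inv, ← map_mul, ← map_mul]
    congr 1
    have h1 : rpG (hyp Q₁) v * rpG (hyp Q₁) w' = rpG (hyp Q₁) w' * rpG (hyp Q₁) v := by
      rw [← rpG_add, ← rpG_add, add_comm]
    rw [mul_assoc, ← h1, inv_mul_cancel_left]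
  have hβm : ∀ w, ∃ w', β (pr _ (rmG (hyp Q₁) w)) = pr _ (rmG (hyp Q₁) w') := by
    intro w
    obtain ⟨w2, hw2⟩ := hm1 w
    obtain ⟨w3, hw3⟩ : ∃ w3, q * rpG (hyp Q₁) w2 * q⁻¹ = rpG (hyp Q₁) w3 :=
      Pe_conj_Re hq ⟨w2, rfl⟩
    obtain ⟨w4, hw4⟩ := conj_rp_rm (Om_le_Og _ hn0) hn0e w3
    refine ⟨w4, ?_⟩
    have h1 : rmG (hyp Q₁) w4 = n * rpG (hyp Q₁) w3 * n⁻¹ := Subtype.ext hw4.symm
    rw [hβ, hw2, h1, ← hw3, hgq, ← map_inv, ← map_mul, ← map_mul]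
    congr 1
    group
  have hβp' : ∀ w', ∃ w, β (pr _ (rpG (hyp Q₁) w)) = pr _ (rpG (hyp Q₁) w') := by
    choose φ hφ using hβp
    have hinj : Function.Injective φ := by
      intro a b hab
      apply rpG_inj hQ0
      apply β.injective
      rw [hφ, hφ, hab]
    intro w'
    obtain ⟨w, hw⟩ := Finite.injective_iff_surjective.1 hinj w'
    exact ⟨w, by rw [hφ, hw]⟩
  have hβm' : ∀ w', ∃ w, β (pr _ (rmG (hyp Q₁) w)) = pr _ (rmG (hyp Q₁) w') := by
    choose φ hφ using hβm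
    have hinj : Function.Injective φ := by
      intro a b hab
      apply rmG_inj hQ0
      apply β.injective
      rw [hφ, hφ, hab]
    intro w'
    obtain ⟨w, hw⟩ := Finite.injective_iff_surjective.1 hinj w'
    exact ⟨w, by rw [hφ, hw]⟩
  obtain ⟨γ, hγ⟩ := recon hQ β hβp hβp' hβm hβm'
  refine ⟨⟨k.1, Om_le_GammaO _ k.2⟩ * γ, ?_⟩
  intro x
  rw [map_mul, MulAut.mul_apply, hγ, Theta_of_Om, hβ]
  group

/-- For every automorphism, after an inner one, the dichotomy holds. -/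
theorem dichotomy' {Q₁ : QuadraticForm F V} (hQ : Nice Q₁) {p : ℕ} [Fact p.Prime]
    [CharP F p] [Finite F] [Finite V] (α : PG (hyp (hyp Q₁)) ≃* PG (hyp (hyp Q₁))) :
    ∃ g : G (hyp (hyp Q₁)),
    (∀ y ∈ Peb (hyp Q₁), pr _ g * α y * (pr _ g)⁻¹ ∈ Peb (hyp Q₁)) ∨
    ∃ T : Submodule F (F × F × (F × F × V)), e1 ∈ T ∧ (∃ t ∈ T, ∀ c : F, t ≠ c • e1) ∧
      (∀ x ∈ T, hyp (hyp Q₁) x = 0) ∧
      (∀ x ∈ perp (hyp (hyp Q₁)) T, ∀ y ∈ perp (hyp (hyp Q₁)) T,
        polar (hyp (hyp Q₁)) x y = 0) ∧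
      (∀ h : G (hyp (hyp Q₁)), (∃ y ∈ Peb (hyp Q₁), pr _ g * α y * (pr _ g)⁻¹ = pr _ h) →
        ∀ t ∈ T, h.1 t ∈ T) ∧
      (∀ h ∈ KT (hyp Q₁) T, ∃ y ∈ Reb (hyp Q₁), pr _ g * α y * (pr _ g)⁻¹ = pr _ h) := by
  have hQ0 : Nice (hyp Q₁) := nice_hyp hQ.nondeg
  have hsurj : Function.Surjective (pr (hyp (hyp Q₁))) := QuotientGroup.mk'_surjective _
  obtain ⟨S, hS⟩ := exists_sylow_fix hQ0 p
  let Sb : Sylow p (PG (hyp (hyp Q₁))) := S.mapSurjective hsurj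
  have hSb : ∀ y, y ∈ Sb ↔ ∃ s ∈ S, pr _ s = y := by
    intro y
    show y ∈ (Sb : Subgroup _) ↔ _
    rw [Sylow.coe_mapSurjective]
    exact Subgroup.mem_map
  let Sb' : Sylow p (PG (hyp (hyp Q₁))) := Sb.mapSurjective (f := α.toMonoidHom) α.surjective
  have hSb' : ∀ y, y ∈ Sb' ↔ ∃ s ∈ Sb, α s = y := by
    intro y
    show y ∈ (Sb : Subgroup _).map α.toMonoidHom ↔ _
    exact Subgroup.mem_map
  obtain ⟨y, hy⟩ := MulAction.exists_smul_eq (PG (hyp (hyp Q₁))) Sb' Sb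
  obtain ⟨g, rfl⟩ := hsurj y
  refine ⟨g, ?_⟩
  have h1 := dichotomy hQ S hS (α.trans (MulAut.conj (pr _ g))) (by
    intro s hs
    have h2 : pr _ s ∈ Sb := (hSb _).2 ⟨s, hs, rfl⟩
    rw [← hy] at h2
    have h3 : (pr _ g)⁻¹ * pr _ s * pr _ g ∈ Sb' := by
      rw [Sylow.smul_def] at h2
      obtain ⟨t, ht, hts⟩ := h2
      have : pr _ s = pr _ g * t * (pr (hyp (hyp Q₁)) g)⁻¹ := hts.symm
      rw [this]
      have e : (pr _ g)⁻¹ * (pr _ g * t * (pr (hyp (hyp Q₁)) g)⁻¹) * pr _ g = t := by group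
      rw [e]; exact ht
    obtain ⟨s', hs', hs''⟩ := (hSb' _).1 h3
    obtain ⟨t, ht, rfl⟩ := (hSb _).1 hs'
    refine ⟨pr _ t, ⟨t, ⟨1, by rw [one_smul, hS t ht]⟩, rfl⟩, ?_⟩
    show MulAut.conj (pr _ g) (α (pr _ t)) = _
    rw [MulAut.conj_apply, hs'']
    group)
  have h2 : ∀ y, (α.trans (MulAut.conj (pr _ g))) y = pr _ g * α y * (pr _ g)⁻¹ := fun y => rfl
  simpa only [h2] using h1

/-- no totally singular subspace has totally isotropic perp -/
def NoSelfPerp {W : Type*} [AddCommGroup W] [Module F W] (Q : QuadraticForm F W) : Prop :=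
  ∀ T : Submodule F W, (∀ x ∈ T, Q x = 0) → ¬ ∀ x ∈ perp Q T, ∀ y ∈ perp Q T, polar Q x y = 0

/-- **Main theorem**: automorphisms are induced by semisimilarities. -/
theorem Theta_surjective {Q₁ : QuadraticForm F V} (hQ : Nice Q₁) [Finite F] [Finite V]
    (hT : NoSelfPerp (hyp (hyp Q₁))) : Function.Surjective (Theta (hyp (hyp Q₁))) := by
  obtain ⟨p, hp⟩ := CharP.exists F
  have hpp : Fact p.Prime := ⟨CharP.char_is_prime F p⟩
  intro α
  obtain ⟨g, h | h⟩ := dichotomy' hQ (p := p) α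
  · obtain ⟨γ, hγ⟩ := induced_of_Peb hQ (p := p) (α.trans (MulAut.conj (pr _ g))) h
    refine ⟨⟨g.1⁻¹, inv_mem (Om_le_GammaO _ g.2)⟩ * γ, ?_⟩
    apply MulEquiv.ext
    intro x
    rw [map_mul, MulAut.mul_apply, hγ]
    have h1 := Theta_of_Om g⁻¹ ((α.trans (MulAut.conj (pr _ g))) x)
    rw [map_inv] at h1
    have h2 : (⟨(g⁻¹).1, Om_le_GammaO _ (g⁻¹).2⟩ : ↥(GammaO (hyp (hyp Q₁)))) =
      ⟨g.1⁻¹, inv_mem (Om_le_GammaO _ g.2)⟩ := rfl
    rw [h2] at h1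
    rw [h1]
    show (pr _ g)⁻¹ * (pr _ g * α x * (pr _ g)⁻¹) * (pr _ g)⁻¹⁻¹ = α x
    group
  · obtain ⟨T, _, _, h1, h2, _⟩ := h
    exact absurd h2 (hT T h1)

end Cfsg.Agent.OrthAut.Aut
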